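import Mathlib
import Cfsg.Agent.Lib.ClassSizes.TwoSizes
import Cfsg.Agent.Lib.ClassSizes.ClassGraphSplit
import Cfsg.Agent.Lib.ClassSizes.RegularTwoMain

/-!
# Four class sizes `1, n, m, nm` with `n, m` coprime: generalities and the prime power step
-/

set_option autoImplicit false
set_option linter.all false

namespace CfsgLib.ClassSizes.FourSizes

open Subgroup
open CfsgLib.ClassSizes

universe u

variable {G : Type u} [Group G] [Finite G]

/-- The centralizer of an element. -/
abbrev C (x : G) : Subgroup G := centralizer ({x} : Set G)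

/-- The hypotheses. -/
structure Four (n m : ℕ) (G : Type u) [Group G] : Prop where
  hn : 1 < n
  hm : 1 < m
  cop : n.Coprime m
  sizes : ∀ x : G, (C x).index = 1 ∨ (C x).index = n ∨ (C x).index = m ∨ (C x).index = n * m
  exn : ∃ x : G, (C x).index = n
  exm : ∃ x : G, (C x).index = m
  exnm : ∃ x : G, (C x).index = n * m

theorem mem_C {x g : G} : g ∈ C x ↔ g * x = x * g := mem_centralizer_singleton_iff

theorem mem_C_comm {x g : G} (h : g ∈ C x) : x ∈ C g := mem_C.2 (mem_C.1 h).symm

theorem self_mem (x : G) : x ∈ C x := mem_C.2 rfl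

theorem center_le (x : G) : center G ≤ C x := fun g hg => mem_C.2 (Subgroup.mem_center_iff.1 hg x).symm

theorem zpowers_mul {a b : G} (hc : Commute a b) (hco : (orderOf b).Coprime (orderOf a)) : a ∈ zpowers (a * b) := by
  obtain ⟨k, hk⟩ := exists_pow_eq_self_of_coprime hco
  have e : a = (a * b) ^ (orderOf b * k) := by rw [pow_mul, hc.mul_pow, pow_orderOf_eq_one, mul_one, hk]
  have := Subgroup.npow_mem_zpowers (a * b) (orderOf b * k)
  rwa [← e] at this

/-- For commuting elements of coprime orders the centraliser of the product is the intersection. -/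
theorem C_mul {a b : G} (hc : Commute a b) (hco : (orderOf a).Coprime (orderOf b)) : C (a * b) = C a ⊓ C b := by
  refine le_antisymm (le_inf (TwoSizes.centralizer_le_of_mem (zpowers_mul hc hco.symm))
    (TwoSizes.centralizer_le_of_mem (hc.eq ▸ zpowers_mul hc.symm hco))) fun g hg => ?_
  exact mem_C.2 ((show Commute g a from mem_C.1 hg.1).mul_right (show Commute g b from mem_C.1 hg.2)).eq

theorem idx_dvd {a b : G} (h : C a ≤ C b) : (C b).index ∣ (C a).index := index_dvd_of_le h

theorem idx_ne (x : G) : (C x).index ≠ 0 := index_ne_zero_of_finite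

theorem eq_of_le {a b : G} (h : C a ≤ C b) (hi : (C a).index = (C b).index) : C a = C b := by
  refine eq_of_le_of_card_ge h (le_of_eq ?_)
  have h1 := (C a).index_mul_card
  rw [← (C b).index_mul_card, hi] at h1
  exact (Nat.eq_of_mul_eq_mul_left (Nat.pos_of_ne_zero (idx_ne b)) h1).symm

theorem idx_one {x : G} : (C x).index = 1 ↔ x ∈ center G := TwoSizes.index_one_iff

/-- Elements of prime power order for a prime dividing no class size are central. -/
theorem central_of_not_dvd {r : ℕ} [Fact r.Prime] (h : ∀ x : G, ¬ r ∣ (C x).index) {w : G} {k : ℕ}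
    (hw : orderOf w = r ^ k) : w ∈ center G := by
  obtain ⟨R, hR⟩ := (IsPGroup.of_card (show Nat.card (zpowers w) = r ^ k by rw [Nat.card_zpowers, hw])).exists_le_sylow
  have htop : centralizer ((R : Subgroup G) : Set G) = ⊤ := by
    refine GraphSplit.eq_top_of_conj_cover _ fun x => ?_
    obtain ⟨S⟩ : Nonempty (Sylow r (C x)) := inferInstance
    set Sg := (S : Subgroup (C x)).map (C x).subtype
    obtain ⟨T, hT⟩ := (S.isPGroup'.map (C x).subtype).exists_le_sylow
    have heq : Sg = (T : Subgroup G) := by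
      refine eq_of_le_of_card_ge hT (Nat.le_of_dvd Nat.card_pos ?_)
      obtain ⟨j, hj⟩ := T.isPGroup'.exists_card_eq
      have hd : r ^ j ∣ Nat.card (C x) := by
        have h1 : r ^ j ∣ (C x).index * Nat.card (C x) := by
          rw [(C x).index_mul_card, ← hj]; exact card_subgroup_dvd_card _
        exact ((((Fact.out : r.Prime).coprime_iff_not_dvd).2 (h x)).pow_left j).dvd_of_dvd_mul_left h1
      rw [hj, ← Nat.card_congr ((S : Subgroup (C x)).equivMapOfInjective _ (subtype_injective _)).toEquiv]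
      exact S.pow_dvd_card_of_pow_dvd_card hd
    obtain ⟨g, hg⟩ := MulAction.exists_smul_eq G R T
    refine ⟨g, mem_centralizer_iff.2 fun a ha => ?_⟩
    have h1 : g * a * g⁻¹ ∈ C x := by
      have h2 : g * a * g⁻¹ ∈ (T : Subgroup G) := by
        rw [← hg]
        exact ⟨a, ha, rfl⟩
      rw [← heq] at h2
      exact map_subtype_le _ h2
    calc a * (g⁻¹ * x * g) = g⁻¹ * (g * a * g⁻¹ * x) * g := by group
      _ = g⁻¹ * (x * (g * a * g⁻¹)) * g := by rw [mem_C.1 h1]
      _ = g⁻¹ * x * g * a := by group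
  refine Subgroup.mem_center_iff.2 fun g => ?_
  exact (mem_centralizer_iff.1 (htop.ge (mem_top g)) w (hR (mem_zpowers w))).symm

namespace Four

variable {n m : ℕ} (F : Four n m G)
include F


theorem symm : Four m n G := by
  refine ⟨F.hm, F.hn, F.cop.symm, fun x => ?_, F.exm, F.exn, ?_⟩
  · rcases F.sizes x with h | h | h | h
    exacts [Or.inl h, Or.inr (Or.inr (Or.inl h)), Or.inr (Or.inl h), Or.inr (Or.inr (Or.inr (h.trans (mul_comm n m))))]
  · obtain ⟨x, hx⟩ := F.exnm
    exact ⟨x, hx.trans (mul_comm n m)⟩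


theorem not_central {x : G} {k : ℕ} (hx : (C x).index = k) (hk : k ≠ 1) : x ∉ center G :=
  fun h => hk (hx.symm.trans (idx_one.2 h))


theorem ne_one {x : G} (hx : x ∉ center G) : (C x).index ≠ 1 := fun h => hx (idx_one.1 h)


theorem not_dvd : ¬ n ∣ m := fun h => F.hn.ne' (Nat.eq_one_of_dvd_coprimes F.cop dvd_rfl h)


theorem of_dvd_n {x : G} (hd : (C x).index ∣ n) : (C x).index = 1 ∨ (C x).index = n := by
  rcases F.sizes x with h | h | h | h
  · exact Or.inl h
  · exact Or.inr h
  · exact absurd (h ▸ hd) F.symm.not_dvd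
  · exact absurd ((dvd_mul_left m n).trans (h ▸ hd)) F.symm.not_dvd


theorem of_n_dvd {x : G} (hd : n ∣ (C x).index) : (C x).index = n ∨ (C x).index = n * m := by
  rcases F.sizes x with h | h | h | h
  · exact absurd (Nat.eq_one_of_dvd_one (h ▸ hd)) F.hn.ne'
  · exact Or.inl h
  · exact absurd (h ▸ hd) F.not_dvd
  · exact Or.inr h


theorem dvd_nm (x : G) : (C x).index ∣ n * m := by
  rcases F.sizes x with h | h | h | h
  exacts [h ▸ one_dvd _, h ▸ dvd_mul_right _ _, h ▸ dvd_mul_left _ _, dvd_of_eq h]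

/-- An element of index `n` has a primary part of index `n`. -/
theorem exists_primary {x : G} (hx : (C x).index = n) :
    ∃ y : G, ∃ s k : ℕ, s.Prime ∧ orderOf y = s ^ k ∧ (C y).index = n := by
  by_contra hcon
  push Not at hcon
  refine F.not_central hx F.hn.ne' (TwoSizes.mem_of_primary _ x fun y hy q k hq hk => ?_)
  have hd : (C y).index ∣ n := hx ▸ idx_dvd (TwoSizes.centralizer_le_of_mem hy)
  exact idx_one.1 ((F.of_dvd_n hd).resolve_right (hcon y q k hq hk))

/-- The centralisers of elements of coprime indices meet outside the centre. -/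
theorem exists_inf {x y : G} (hx : (C x).index = n) (hy : (C y).index = m) :
    ∃ d ∈ C x ⊓ C y, d ∉ center G ∧ ∃ t k : ℕ, t.Prime ∧ orderOf d = t ^ k := by
  by_contra hcon
  push Not at hcon
  have hle : C x ⊓ C y ≤ center G := fun d hd => TwoSizes.mem_of_primary _ d fun w hw q k hq hk => by
    by_contra hwc
    exact hcon w ((zpowers_le.2 hd) hw) hwc q k hq hk
  obtain ⟨z, hz⟩ := F.exnm
  have hzc : z ∉ center G := F.not_central hz (fun e => F.hn.ne' (Nat.eq_one_of_dvd_one ⟨m, e.symm⟩))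
  have hlt : Nat.card (center G) < Nat.card (C z) := by
    by_contra h
    exact hzc ((eq_of_le_of_card_ge (center_le z) (not_lt.1 h)).ge (self_mem z))
  have h1 : (C x ⊓ C y).index ≤ n * m := (index_inf_le).trans (le_of_eq (by rw [hx, hy]))
  have h2 := (C x ⊓ C y).index_mul_card
  rw [← (C z).index_mul_card, hz] at h2
  have h3 : Nat.card (C x ⊓ C y : Subgroup G) ≤ Nat.card (center G) := Nat.le_of_dvd Nat.card_pos (card_dvd_of_le hle)
  have h4 : (C x ⊓ C y).index * Nat.card (C x ⊓ C y : Subgroup G) < (n * m) * Nat.card (C z) :=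
    Nat.mul_lt_mul_of_le_of_lt h1 (lt_of_le_of_lt h3 hlt) (Nat.mul_pos (by linarith [F.hn]) (by linarith [F.hm]))
  omega


theorem idx_of_mem {x h : G} {s k : ℕ} (hs : s.Prime) (hk : orderOf x = s ^ k) (hx : (C x).index = n)
    (hh : h ∈ C x) (hco : (orderOf h).Coprime s) :
    (centralizer ({(⟨h, hh⟩ : C x)} : Set (C x))).index = 1 ∨
      (centralizer ({(⟨h, hh⟩ : C x)} : Set (C x))).index = m := by
  have e : centralizer ({(⟨h, hh⟩ : C x)} : Set (C x)) = (C (x * h)).subgroupOf (C x) := by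
    rw [C_mul (show Commute x h from (mem_C.1 hh).symm) (by rw [hk]; exact (hco.pow_right k).symm)]
    ext g
    simp only [mem_subgroupOf, mem_inf, mem_centralizer_singleton_iff, SetLike.coe_mem, true_and,
      Subtype.ext_iff, Subgroup.coe_mul]
  have hle : C (x * h) ≤ C x := by
    rw [C_mul (show Commute x h from (mem_C.1 hh).symm) (by rw [hk]; exact (hco.pow_right k).symm)]
    exact inf_le_left
  have hmul : ((C (x * h)).subgroupOf (C x)).index * n = (C (x * h)).index := by
    rw [← hx]; exact relIndex_mul_index hle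
  rw [e]
  rcases F.of_n_dvd (Dvd.intro_left _ hmul) with h1 | h1 <;> rw [h1] at hmul
  · exact Or.inl (Nat.eq_of_mul_eq_mul_right (by linarith [F.hn]) (hmul.trans (one_mul n).symm))
  · exact Or.inr (Nat.eq_of_mul_eq_mul_right (by linarith [F.hn]) (hmul.trans (mul_comm n m)))

/-- If `m` is not a prime power, elements of order prime to `m` and to `x` commuting with `x` are
central in `C(x)`. -/
theorem central_in_cent (hm' : ¬ IsPrimePow m) {x h : G} {s k : ℕ} (hs : s.Prime) (hk : orderOf x = s ^ k)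
    (hx : (C x).index = n) {t l : ℕ} (ht : t.Prime) (hts : t ≠ s) (htm : ¬ t ∣ m) (hl : orderOf h = t ^ l)
    (hh : h ∈ C x) : C x ≤ C h := by
  by_contra hle
  have hnc : (⟨h, hh⟩ : C x) ∉ center (C x) := fun hc => hle fun g hg =>
    mem_C.2 (congrArg Subtype.val (Subgroup.mem_center_iff.1 hc ⟨g, hg⟩))
  have hidx : (centralizer ({(⟨h, hh⟩ : C x)} : Set (C x))).index = m :=
    (F.idx_of_mem hs hk hx hh (by rw [hl]; exact ((Nat.coprime_primes ht hs).2 hts).pow_left l)).resolve_left
      fun e => hnc (TwoSizes.index_one_iff.1 e)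
  have hpow : ¬ ∃ i, m = s ^ i := by
    rintro ⟨i, hi⟩
    rcases Nat.eq_zero_or_pos i with rfl | hi0
    · exact F.hm.ne' (hi.trans (pow_zero s))
    · exact hm' (hi ▸ hs.isPrimePow.pow hi0.ne')
  obtain ⟨q, hq, hqs, hqm⟩ : ∃ q, q.Prime ∧ q ≠ s ∧ q ∣ m := by
    by_contra hcon
    push Not at hcon
    exact hpow ⟨_, Nat.eq_prime_pow_of_unique_prime_dvd (by linarith [F.hm]) fun {d} hd hdm => by
      by_contra hne; exact hcon d hd hne hdm⟩
  haveI := Fact.mk hq
  obtain ⟨w, hw, j, hj⟩ := TwoSizes.prime_of_not_le_center (G := C x) (r := q) (x := ⟨h, hh⟩) (hidx.symm ▸ hqm)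
  have := RegularTwo.subsingleton_act (G := C x) hs (fun g hg =>
      F.idx_of_mem hs hk hx g.2 (by rwa [Subgroup.orderOf_coe])) hpow ht hq hts hqs
    ⟨⟨h, hh⟩, hnc, l, by rw [Subgroup.orderOf_mk, hl]⟩ ⟨w, hw, j, hj⟩
  exact htm (this ▸ hqm)

/-- If `m` is not a prime power, no element of index `n` has order a power of a prime dividing `n`. -/
theorem no_element (hm' : ¬ IsPrimePow m) {v : G} {r k : ℕ} (hr : r.Prime) (hrn : r ∣ n)
    (hk : orderOf v = r ^ k) : (C v).index ≠ n := by
  intro hv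
  have hrm : ¬ r ∣ m := fun h => hr.one_lt.ne' (Nat.eq_one_of_dvd_coprimes F.cop hrn h)
  have hpow : ¬ ∃ i, m = r ^ i := by
    rintro ⟨i, hi⟩
    rcases Nat.eq_zero_or_pos i with rfl | hi0
    · exact F.hm.ne' (hi.trans (pow_zero r))
    · exact hrm (hi ▸ dvd_pow_self r hi0.ne')
  by_cases htriv : ∀ h : C v, (orderOf h).Coprime r → h ∈ center (C v)
  · -- the centraliser of `v` is abelian
    have hprim : ∀ (h : G), h ∈ C v → ∀ t l : ℕ, t.Prime → t ≠ r → orderOf h = t ^ l → C v ≤ C h := by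
      intro h hh t l ht htr hl g hg
      have := htriv ⟨h, hh⟩ (by rw [Subgroup.orderOf_mk, hl]; exact ((Nat.coprime_primes ht hr).2 htr).pow_left l)
      exact mem_C.2 (congrArg Subtype.val (Subgroup.mem_center_iff.1 this ⟨g, hg⟩))
    obtain ⟨q, hq, hqm⟩ := Nat.exists_prime_and_dvd F.hm.ne'
    have hqr : q ≠ r := fun e => hrm (e ▸ hqm)
    have hqn : ¬ q ∣ n := fun h => hq.one_lt.ne' (Nat.eq_one_of_dvd_coprimes F.cop h hqm)
    haveI := Fact.mk hq
    obtain ⟨z, hz⟩ := F.exm
    obtain ⟨w₀, hw₀, j₀, hj₀⟩ := TwoSizes.prime_of_not_le_center (r := q) (x := z) (hz.symm ▸ hqm)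
    obtain ⟨w, hwv, hwc, j, hj⟩ : ∃ w ∈ C v, w ∉ center G ∧ ∃ j, orderOf w = q ^ j := by
      obtain ⟨S⟩ : Nonempty (Sylow q (C v)) := inferInstance
      obtain ⟨R, hR⟩ := (IsPGroup.of_card (show Nat.card (zpowers w₀) = q ^ j₀ by
        rw [Nat.card_zpowers, hj₀])).exists_le_sylow
      obtain ⟨T, hT⟩ := (S.isPGroup'.map (C v).subtype).exists_le_sylow
      have heq : (S : Subgroup (C v)).map (C v).subtype = (T : Subgroup G) := by
        refine eq_of_le_of_card_ge hT (Nat.le_of_dvd Nat.card_pos ?_)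
        obtain ⟨i, hi⟩ := T.isPGroup'.exists_card_eq
        have hd : q ^ i ∣ Nat.card (C v) := by
          have h1 : q ^ i ∣ (C v).index * Nat.card (C v) := by
            rw [(C v).index_mul_card, ← hi]; exact card_subgroup_dvd_card _
          exact (((hq.coprime_iff_not_dvd).2 (hv.symm ▸ hqn)).pow_left i).dvd_of_dvd_mul_left h1
        rw [hi, ← Nat.card_congr ((S : Subgroup (C v)).equivMapOfInjective _ (subtype_injective _)).toEquiv]
        exact S.pow_dvd_card_of_pow_dvd_card hd
      obtain ⟨g, hg⟩ := MulAction.exists_smul_eq G R T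
      refine ⟨g * w₀ * g⁻¹, map_subtype_le _ (heq.ge ?_), fun hc => hw₀ ?_, j₀, ?_⟩
      · rw [← hg]; exact ⟨w₀, hR (mem_zpowers w₀), rfl⟩
      · have : g⁻¹ * (g * w₀ * g⁻¹) * g⁻¹⁻¹ ∈ center G := (inferInstance : (center G).Normal).conj_mem _ hc g⁻¹
        simpa [mul_assoc] using this
      · rw [← hj₀, ← MulAut.conj_apply, MulEquiv.orderOf_eq]
    have hle := hprim w hwv q j hq hqr hj
    have hwn : (C w).index = n := (F.of_dvd_n (hv ▸ idx_dvd hle)).resolve_left (F.ne_one hwc)
    have heq : C v = C w := eq_of_le hle (hv.trans hwn.symm)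
    have hall : ∀ (h : G), h ∈ C v → C v ≤ C h := by
      intro h hh
      have hcc : h ∈ centralizer (C v : Set G) := TwoSizes.mem_of_primary _ h fun a ha t l ht hl => by
        have haC : a ∈ C v := (zpowers_le.2 hh) ha
        have hle' : C v ≤ C a := by
          by_cases htr : t = r
          · rw [heq]
            exact F.central_in_cent hm' hq hj hwn ht (htr ▸ hqr.symm) (htr ▸ hrm) hl (heq ▸ haC)
          · exact hprim a haC t l ht htr hl
        exact mem_centralizer_iff.2 fun g hg => mem_C.1 (hle' hg)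
      exact fun g hg => mem_C.2 (mem_centralizer_iff.1 hcc g hg)
    obtain ⟨y, hy⟩ := F.exm
    obtain ⟨d, hd, hdc, -⟩ := F.exists_inf hv hy
    have hdn : (C d).index = n := (F.of_dvd_n (hv ▸ idx_dvd (hall d hd.1))).resolve_left (F.ne_one hdc)
    have hyC : y ∈ C v := (eq_of_le (hall d hd.1) (hv.trans hdn.symm)).ge (mem_C_comm hd.2)
    exact F.symm.not_dvd (hy ▸ hv ▸ idx_dvd (hall y hyC))
  · simp only [not_forall] at htriv
    obtain ⟨h, hco, hnc⟩ := htriv
    have hidx : (centralizer ({h} : Set (C v))).index = m :=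
      (F.idx_of_mem hr hk hv h.2 (by rwa [Subgroup.orderOf_coe])).resolve_left fun e => hnc (TwoSizes.index_one_iff.1 e)
    refine hm' ((isPrimePow_iff_unique_prime_dvd).2 ?_)
    obtain ⟨q, hq, hqm⟩ := Nat.exists_prime_and_dvd F.hm.ne'
    refine ⟨q, ⟨hq, hqm⟩, fun q' ⟨hq', hqm'⟩ => ?_⟩
    haveI := Fact.mk hq
    haveI := Fact.mk hq'
    exact RegularTwo.subsingleton_act (G := C v) hr (fun g hg =>
      F.idx_of_mem hr hk hv g.2 (by rwa [Subgroup.orderOf_coe])) hpow hq' hq (fun e => hrm (e ▸ hqm'))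
      (fun e => hrm (e ▸ hqm)) (TwoSizes.prime_of_not_le_center (hidx.symm ▸ hqm'))
      (TwoSizes.prime_of_not_le_center (hidx.symm ▸ hqm))

/-- The prime power step. -/
theorem isPrimePow_m : IsPrimePow m := by
  by_contra hm'
  obtain ⟨r, hr, hrn⟩ := Nat.exists_prime_and_dvd F.hn.ne'
  haveI := Fact.mk hr
  have hrm : ¬ r ∣ m := fun h => hr.one_lt.ne' (Nat.eq_one_of_dvd_coprimes F.cop hrn h)
  obtain ⟨x₀, hx₀⟩ := F.exn
  obtain ⟨x, s, k, hs, hk, hx⟩ := F.exists_primary hx₀
  have hsr : r ≠ s := fun e => F.no_element hm' hr hrn (e ▸ hk) hx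
  -- `r`-elements commuting with `x` are central
  have hH : ∀ v ∈ C x, ∀ l, orderOf v = r ^ l → v ∈ center G := by
    intro v hv l hl
    by_contra hvc
    have h1 := F.central_in_cent hm' hs hk hx hr hsr hrm hl hv
    exact F.no_element hm' hr hrn hl ((F.of_dvd_n (hx ▸ idx_dvd h1)).resolve_left (F.ne_one hvc))
  -- so noncentral `r`-elements only commute with elements of index `1` or `m`
  have hone : ∀ v : G, v ∉ center G → ∀ l, orderOf v = r ^ l → ∀ z ∈ C v, ¬ n ∣ (C z).index := by
    intro v hvc l hl z hz hnz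
    obtain ⟨S, hS⟩ := (IsPGroup.of_card (show Nat.card (zpowers (⟨v, mem_C_comm hz⟩ : C z)) = r ^ l by
      rw [Nat.card_zpowers, Subgroup.orderOf_mk, hl])).exists_le_sylow
    obtain ⟨T⟩ : Nonempty (Sylow r (C x)) := inferInstance
    obtain ⟨e, he⟩ := S.isPGroup'.exists_card_eq
    have hd : r ^ e ∣ Nat.card (C x) := by
      have h1 : r ^ e ∣ Nat.card (C z) := he ▸ card_subgroup_dvd_card _
      obtain ⟨c, hc⟩ := hnz
      have h2 := (C x).index_mul_card
      rw [hx, ← (C z).index_mul_card, hc, mul_assoc] at h2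
      rw [Nat.eq_of_mul_eq_mul_left (by linarith [F.hn]) h2]
      exact h1.mul_left c
    have hTle : (T : Subgroup (C x)).map (C x).subtype ≤ center G := by
      rintro _ ⟨a, ha, rfl⟩
      obtain ⟨i, hi⟩ := IsPGroup.iff_orderOf.1 T.isPGroup' ⟨a, ha⟩
      exact hH _ a.2 i (by rw [Subgroup.orderOf_mk] at hi; rw [← hi, Subgroup.coe_subtype, Subgroup.orderOf_coe])
    have h3 : (T : Subgroup (C x)).map (C x).subtype ≤ (S : Subgroup (C z)).map (C z).subtype := by
      intro a ha
      have hac := hTle ha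
      let a' : C z := ⟨a, center_le z hac⟩
      have haS : a' ∈ (S : Subgroup (C z)) := by
        have hcen : a' ∈ center (C z) := Subgroup.mem_center_iff.2 fun g => Subtype.ext (Subgroup.mem_center_iff.1 hac g)
        obtain ⟨i, hi⟩ := IsPGroup.iff_orderOf.1 (T.isPGroup'.map (C x).subtype) ⟨a, ha⟩
        have hp' : IsPGroup r (zpowers a') := IsPGroup.of_card (n := i) (by
          rw [Nat.card_zpowers, Subgroup.orderOf_mk]; rwa [Subgroup.orderOf_mk] at hi)
        have hsup : IsPGroup r ((S : Subgroup (C z)) ⊔ zpowers a' : Subgroup (C z)) :=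
          IsPGroup.to_sup_of_normal_left' S.isPGroup' hp' (zpowers_le.2 (Subgroup.center_le_normalizer _ hcen))
        exact (S.is_maximal' hsup le_sup_left) ▸ mem_sup_right (mem_zpowers a')
      exact ⟨a', haS, rfl⟩
    have h4 : (S : Subgroup (C z)).map (C z).subtype = (T : Subgroup (C x)).map (C x).subtype := by
      refine (eq_of_le_of_card_ge h3 ?_).symm
      rw [← Nat.card_congr ((S : Subgroup (C z)).equivMapOfInjective _ (subtype_injective _)).toEquiv,
        ← Nat.card_congr ((T : Subgroup (C x)).equivMapOfInjective _ (subtype_injective _)).toEquiv, he]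
      exact Nat.le_of_dvd Nat.card_pos (T.pow_dvd_card_of_pow_dvd_card hd)
    exact hvc (hTle (h4 ▸ ⟨_, hS (mem_zpowers (⟨v, mem_C_comm hz⟩ : C z)), rfl⟩))
  obtain ⟨v, hvc, l, hl⟩ := TwoSizes.prime_of_not_le_center (r := r) (x := x) (hx.symm ▸ hrn)
  have hval : ∀ z ∈ C v, z ∉ center G → (C z).index = m := by
    intro z hz hzc
    rcases F.sizes z with e | e | e | e
    · exact absurd e (F.ne_one hzc)
    · exact absurd (e ▸ dvd_rfl) (hone v hvc l hl z hz)
    · exact e
    · exact absurd (e ▸ dvd_mul_right n m) (hone v hvc l hl z hz)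
  have hvm : (C v).index = m := hval v (self_mem v) hvc
  obtain ⟨d, hd, hdc, t, i, ht, hi⟩ := F.exists_inf hx hvm
  have htr : t ≠ r := fun e => hdc (hH d hd.1 i (e ▸ hi))
  have hcd : Commute d v := mem_C.1 hd.2
  have hco : (orderOf d).Coprime (orderOf v) := by
    rw [hi, hl]; exact ((Nat.coprime_primes ht hr).2 htr).pow i l
  have hdv : d * v ∈ C v := mul_mem hd.2 (self_mem v)
  have hle := C_mul hcd hco
  have hdvc : d * v ∉ center G := fun h => hdc ((zpowers_le.2 h) (zpowers_mul hcd hco.symm))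
  have h1 := hval _ hdv hdvc
  have e1 : C (d * v) = C v := eq_of_le (hle ▸ inf_le_right) (h1.trans hvm.symm)
  have e2 : C (d * v) = C d := eq_of_le (hle ▸ inf_le_left) (h1.trans (hval d hd.2 hdc).symm)
  have hxv : x ∈ C v := e1 ▸ e2.symm ▸ mem_C_comm hd.1
  exact hone v hvc l hl x hxv (dvd_of_eq hx.symm)

end Four

end CfsgLib.ClassSizes.FourSizes
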