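import Cfsg.Agent.Lib.ClassSizes.FourSizes.Setup
import Cfsg.Agent.Lib.Components.FStar

/-!
# The case where the `q`-core is central is impossible
-/

set_option autoImplicit false
set_option linter.all false

namespace CfsgLib.ClassSizes.FourSizes

open Subgroup
open CfsgLib.ClassSizes
open CfsgLib.ClassSizes.RegularTwo (orderOf_conj')

universe u

variable {G : Type u} [Group G] [Finite G]

namespace Pow

variable {p q a b n m : ℕ} (F : Pow p q a b n m G)
include F

theorem solvable : Group.IsSolvable G := by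
  haveI : Group.IsSolvable (G ⧸ center G) := by
    refine RegularTwo.solvable_of_two F.hp F.hq fun r hr hrd => ?_
    by_contra hne
    rw [not_or] at hne
    haveI := Fact.mk hr
    obtain ⟨R⟩ : Nonempty (Sylow r G) := inferInstance
    exact R.not_dvd_index (hrd.trans (index_dvd_of_le (F.sylow_other_le hr hne.1 hne.2 R R.isPGroup')))
  have hsolvZ : Group.IsSolvable (center G) := isSolvable_of_comm fun a b => Subtype.ext
    (Subgroup.mem_center_iff.1 b.2 a.1)
  exact solvable_of_ker_le_range (center G).subtype (QuotientGroup.mk' (center G))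
    (by rw [QuotientGroup.ker_mk', range_subtype])

theorem fitting_le {q' : ℕ} (hW : Cfsg.pCore q G ≤ center G) :
    Cfsg.fittingSubgroup G ≤ Cfsg.pCore p G ⊔ center G := by
  rw [CfsgLib.Core.fittingSubgroup_eq_iSup_pCore]
  refine iSup_le fun r => ?_
  by_cases hrp : (r : ℕ) = p
  · rw [hrp]; exact le_sup_left
  by_cases hrq : (r : ℕ) = q
  · rw [hrq]; exact hW.trans le_sup_right
  exact (F.sylow_other_le r.2 hrp hrq _ (CfsgLib.Core.isPGroup_pCore _ _)).trans le_sup_right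

/-- An element centralising the `p`-core centralises the Fitting subgroup, hence lies in it. -/
theorem mem_of_centralizes (hW : Cfsg.pCore q G ≤ center G) {g : G}
    (hg : Cfsg.pCore p G ≤ C g) : ∃ u ∈ Cfsg.pCore p G, ∃ z ∈ center G, u * z = g := by
  haveI := F.solvable
  have hC : g ∈ centralizer (Cfsg.fittingSubgroup G : Set G) :=
    mem_centralizer_iff.2 fun x hx => mem_C.1 (sup_le hg (center_le g) (F.fitting_le (q' := q) hW hx))
  have h := F.fitting_le (q' := q) hW (CfsgLib.Components.centralizer_fitting_le_of_isSolvable hC)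
  rwa [← SetLike.mem_coe, Subgroup.normal_mul (Cfsg.pCore p G) (center G), Set.mem_mul] at h

theorem central_of_centralizes (hW : Cfsg.pCore q G ≤ center G) {g : G} {k : ℕ} (hk : orderOf g = q ^ k)
    (hg : Cfsg.pCore p G ≤ C g) : g ∈ center G := by
  haveI := Fact.mk F.hp
  obtain ⟨u, hu, z, hz, rfl⟩ := F.mem_of_centralizes hW hg
  obtain ⟨i, hi⟩ := IsPGroup.iff_orderOf.1 (CfsgLib.Core.isPGroup_pCore p G) ⟨u, hu⟩
  rw [Subgroup.orderOf_mk] at hi
  have hc : Commute u z := Subgroup.mem_center_iff.1 hz u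
  have h1 : (u * z) ^ (p ^ i) ∈ center G := by
    rw [hc.mul_pow, ← hi, pow_orderOf_eq_one, one_mul]
    exact pow_mem hz _
  exact RegularTwo.mem_of_pow_mem (by rw [hk]; exact ((Nat.coprime_primes F.hp F.hq).2 F.p_ne_q).pow i k) h1

theorem mem_pCore_of_centralizes (hW : Cfsg.pCore q G ≤ center G) {g : G} {k : ℕ} (hk : orderOf g = p ^ k)
    (hg : Cfsg.pCore p G ≤ C g) : g ∈ Cfsg.pCore p G := by
  haveI := Fact.mk F.hp
  obtain ⟨u, hu, z, hz, rfl⟩ := F.mem_of_centralizes hW hg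
  refine mul_mem hu ?_
  haveI : (zpowers z).Normal := ⟨fun x hx g => by
    have hxc : x ∈ center G := (zpowers_le.2 hz) hx
    rw [Subgroup.mem_center_iff.1 hxc g, mul_inv_cancel_right]; exact hx⟩
  have hzp : IsPGroup p (zpowers z) := by
    obtain ⟨i, hi⟩ := IsPGroup.iff_orderOf.1 (CfsgLib.Core.isPGroup_pCore p G) ⟨u, hu⟩
    rw [Subgroup.orderOf_mk] at hi
    have hc : Commute u z := Subgroup.mem_center_iff.1 hz u
    have h1 : z ^ (p ^ i * p ^ k) = 1 := by
      have h2 : (u * z) ^ (p ^ i * p ^ k) = 1 := by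
        rw [mul_comm, pow_mul, ← hk, pow_orderOf_eq_one, one_pow]
      rw [hc.mul_pow, pow_mul u, ← hi, pow_orderOf_eq_one, one_pow, one_mul] at h2
      rwa [← hi]
    obtain ⟨j, -, hj⟩ := (Nat.dvd_prime_pow F.hp).1 (show orderOf z ∣ p ^ (i + k) from orderOf_dvd_of_pow_eq_one (by rw [pow_add]; exact h1))
    exact IsPGroup.of_card (by rw [Nat.card_zpowers, hj])
  exact CfsgLib.Core.le_pCore hzp (mem_zpowers z)

end Pow

namespace Bad

variable {p q a b n m : ℕ} (F : Bad p q a b n m G)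
include F

theorem card_bound {v : G} {k : ℕ} (hk : orderOf v = p ^ k) (hv : v ∉ center G) {X : Subgroup G}
    (hX : IsPGroup q X) (hXv : X ≤ C v) (Q : Sylow q G) : Nat.card X * m ≤ Nat.card Q :=
  F.pw.symm.card_mul_le (F.m_dvd hk hv) hX hXv Q

/-- Every noncentral `p`-element commutes with a noncentral `q`-element. -/
theorem exists_q_commute {v : G} {k : ℕ} (hk : orderOf v = p ^ k) (hv : v ∉ center G) :
    ∃ w : G, w ∈ C v ∧ w ∉ center G ∧ ∃ l, orderOf w = q ^ l := by
  haveI := Fact.mk F.pw.hq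
  obtain ⟨Q⟩ : Nonempty (Sylow q G) := inferInstance
  -- some noncentral `p`-element commutes with a noncentral `q`-element
  obtain ⟨x, lx, hlx, hx⟩ := F.exists_x
  obtain ⟨y, ly, hly, hy⟩ := F.symm.exists_x
  obtain ⟨d, ⟨hdx, hdy⟩, hdc, t, i, ht, hi⟩ := F.pw.four.exists_inf hx hy
  obtain ⟨v₁, k₁, hk₁, hv₁, w₁, hw₁, hw₁c, l₁, hl₁⟩ : ∃ v₁ : G, ∃ k₁, orderOf v₁ = p ^ k₁ ∧ v₁ ∉ center G ∧
      ∃ w₁ : G, w₁ ∈ C v₁ ∧ w₁ ∉ center G ∧ ∃ l₁, orderOf w₁ = q ^ l₁ := by
    by_cases htq : t = q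
    · exact ⟨y, ly, hly, F.pw.four.not_central hy F.pw.four.hm.ne', d, hdy, hdc, i, htq ▸ hi⟩
    by_cases htp : t = p
    · exact ⟨d, i, htp ▸ hi, hdc, x, mem_C_comm hdx, F.pw.four.not_central hx F.pw.four.hn.ne', lx, hlx⟩
    exact absurd (F.pw.central_other ht htp htq hi) hdc
  by_contra hcon
  push Not at hcon
  obtain ⟨R, hR, hRv, hRi⟩ := exists_sylow_sub q (C v)
  have hRc : R ≤ center G := fun r hr => by
    by_contra hrc
    obtain ⟨e, he⟩ := IsPGroup.iff_orderOf.1 hR ⟨r, hr⟩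
    exact hcon r (hRv hr) hrc e (by rwa [Subgroup.orderOf_mk] at he)
  have hsup : IsPGroup q (R ⊔ zpowers w₁ : Subgroup G) :=
    hR.to_sup_of_normal_left' (IsPGroup.of_card (by rw [Nat.card_zpowers, hl₁]))
      (fun g _ => mem_normalizer_iff.2 fun a => ⟨fun ha => by
        rw [Subgroup.mem_center_iff.1 (hRc ha) g, mul_inv_cancel_right]; exact ha, fun ha => by
        have h2 := Subgroup.mem_center_iff.1 (hRc ha) g
        have : a = g * a * g⁻¹ := by
          calc a = g⁻¹ * (g * a * g⁻¹ * g) := by group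
            _ = g * a * g⁻¹ := by rw [← h2]; group
        rwa [this]⟩)
  have hle : R ⊔ zpowers w₁ ≤ C v₁ := sup_le (hRc.trans (center_le v₁)) (zpowers_le.2 hw₁)
  have h1 := F.card_bound hk₁ hv₁ hsup hle Q
  -- compare with the Sylow subgroup of `C v`
  obtain ⟨j, hj⟩ := Q.isPGroup'.exists_card_eq
  have h2 : q ^ j ∣ Nat.card R * m := by
    have h3 : q ^ j ∣ (C v).index * (R.relIndex (C v) * Nat.card R) := by
      rw [relIndex_mul_card_of_le hRv, (C v).index_mul_card, ← hj]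
      exact card_subgroup_dvd_card _
    have h5 : q ^ j ∣ n * (R.relIndex (C v) * (Nat.card R * m)) := by
      refine h3.trans ?_
      obtain ⟨c, hc⟩ := F.pw.four.dvd_nm v
      exact Dvd.intro c (by rw [show n * (R.relIndex (C v) * (Nat.card R * m)) = n * m * (R.relIndex (C v) * Nat.card R) by ring, hc]; ring)
    refine (((F.pw.hq.coprime_iff_not_dvd).2 hRi).pow_left j).dvd_of_dvd_mul_left ?_
    exact (((F.pw.hq.coprime_iff_not_dvd).2 F.pw.symm.not_p_dvd_m).pow_left j).dvd_of_dvd_mul_left h5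
  have hm0 : 0 < m := by linarith [F.pw.four.hm]
  have h4 : Nat.card Q ≤ Nat.card R * m := hj ▸ Nat.le_of_dvd (Nat.mul_pos Nat.card_pos hm0) h2
  have h6 : Nat.card (R ⊔ zpowers w₁ : Subgroup G) ≤ Nat.card R :=
    Nat.le_of_mul_le_mul_right (h1.trans h4) hm0
  exact hw₁c (hRc ((eq_of_le_of_card_ge le_sup_left h6).ge (mem_sup_right (mem_zpowers w₁))))

/-- A commuting noncentral pair gives a `q`-element of index `n`. -/
theorem to_n {v w : G} {k l : ℕ} (hk : orderOf v = p ^ k) (hv : v ∉ center G) (hw : w ∈ C v)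
    (hwc : w ∉ center G) (hl : orderOf w = q ^ l) :
    ∃ x : G, ∃ i, orderOf x = q ^ i ∧ (C x).index = n ∧ x ∈ C v := by
  haveI := Fact.mk F.pw.hq
  have hc : Commute v w := (mem_C.1 hw).symm
  have hmul : C (v * w) = C v ⊓ C w := C_mul hc (by rw [hk, hl]; exact ((Nat.coprime_primes F.pw.hp F.pw.hq).2 F.pw.p_ne_q).pow k l)
  rcases F.symm.idx_p hl hwc with h | h
  · exact ⟨w, l, hl, h, hw⟩
  rw [mul_comm m n] at h
  have hle : C (v * w) ≤ C w := hmul.le.trans inf_le_right
  have heq : C (v * w) = C w := eq_of_le hle (Nat.dvd_antisymm ((F.pw.four.dvd_nm _).trans (dvd_of_eq h.symm)) (idx_dvd hle))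
  obtain ⟨Q, hQ⟩ := (IsPGroup.of_card (show Nat.card (zpowers w) = q ^ l by rw [Nat.card_zpowers, hl])).exists_le_sylow
  obtain ⟨x₀, i, hi, hx₀⟩ := F.exists_x
  obtain ⟨Q₀, hQ₀⟩ := exists_sylow_le_C (q := q) (x := x₀) (by rw [hx₀]; exact F.pw.symm.not_p_dvd_m)
  obtain ⟨g, hg⟩ := MulAction.exists_smul_eq G Q₀ Q
  have hwQ : w ∈ (Q : Subgroup G) := hQ (mem_zpowers w)
  rw [← hg] at hwQ
  obtain ⟨w₀, hw₀, hw₀e⟩ := hwQ
  change g * w₀ * g⁻¹ = w at hw₀e
  have hxw : g * x₀ * g⁻¹ ∈ C w := by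
    rw [← hw₀e]
    refine mem_C.2 ?_
    calc g * x₀ * g⁻¹ * (g * w₀ * g⁻¹) = g * (x₀ * w₀) * g⁻¹ := by group
      _ = g * (w₀ * x₀) * g⁻¹ := by rw [mem_C.1 (hQ₀ hw₀)]
      _ = g * w₀ * g⁻¹ * (g * x₀ * g⁻¹) := by group
  have hxv : g * x₀ * g⁻¹ ∈ C v := (heq.ge.trans (hmul.le.trans inf_le_left)) hxw
  have hxo : orderOf (g * x₀ * g⁻¹) = q ^ i := by rw [orderOf_conj']; exact hi
  exact ⟨g * x₀ * g⁻¹, i, hxo, by rw [index_conj]; exact hx₀, hxv⟩

/-- An element of index `nm` passes its centraliser to the elements of coprime order commuting with it. -/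
theorem le_of_nm {v x : G} {k i : ℕ} (hk : orderOf v = p ^ k) (hi : orderOf x = q ^ i)
    (h : (C v).index = n * m) (hx : x ∈ C v) : C v ≤ C x := by
  have hmul : C (v * x) = C v ⊓ C x := C_mul (show Commute v x from (mem_C.1 hx).symm)
    (by rw [hk, hi]; exact ((Nat.coprime_primes F.pw.hp F.pw.hq).2 F.pw.p_ne_q).pow k i)
  have hle : C (v * x) ≤ C v := hmul.le.trans inf_le_left
  exact (eq_of_le hle (Nat.dvd_antisymm ((F.pw.four.dvd_nm _).trans (dvd_of_eq h.symm)) (idx_dvd hle))).ge.trans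
    (hmul.le.trans inf_le_right)

theorem no_central_core (hW : Cfsg.pCore q G ≤ center G) : False := by
  classical
  haveI := Fact.mk F.pw.hp
  haveI := Fact.mk F.pw.hq
  set U := Cfsg.pCore p G with hU
  have hUp : IsPGroup p U := CfsgLib.Core.isPGroup_pCore p G
  have hUP : ∀ P : Sylow p G, U ≤ (P : Subgroup G) := fun P => CfsgLib.Core.pCore_le_sylow P
  have hUord : ∀ u ∈ U, ∃ e, orderOf u = p ^ e := fun u hu => by
    obtain ⟨e, he⟩ := IsPGroup.iff_orderOf.1 hUp ⟨u, hu⟩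
    exact ⟨e, by rwa [Subgroup.orderOf_mk] at he⟩
  set M := U ⊓ centralizer (U : Set G) with hM
  have hMn : M.Normal := inferInstance
  obtain ⟨y, ky, hky, hy⟩ := F.symm.exists_x
  have hyc : y ∉ center G := F.pw.four.not_central hy F.pw.four.hm.ne'
  obtain ⟨Py, hPy⟩ := exists_sylow_le_C (q := p) (x := y) (by rw [hy]; exact F.pw.not_p_dvd_m)
  have hyU : U ≤ C y := (hUP Py).trans hPy
  have hyM : y ∈ M := ⟨F.pw.mem_pCore_of_centralizes hW hky hyU,
    mem_centralizer_iff.2 fun u hu => mem_C.1 (hyU hu)⟩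
  have hMab : ∀ u ∈ M, M ≤ C u := fun u hu v hv => mem_C.2
    ((mem_centralizer_iff.1 hv.2 u hu.1).symm)
  have hnot : ∀ x : G, (C x).index = n → x ∉ center G := fun x hx => F.pw.four.not_central hx F.pw.four.hn.ne'
  -- an element of index `n` centralising `M`
  have hstep1 : ∃ x i, orderOf x = q ^ i ∧ (C x).index = n ∧ M ≤ C x := by
    by_cases hnm : ∃ u ∈ M, (C u).index = n * m
    · obtain ⟨u, hu, hidx⟩ := hnm
      obtain ⟨k, hk⟩ := hUord u hu.1
      have huc : u ∉ center G := F.pw.four.not_central hidx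
        (fun e => F.pw.four.hn.ne' (Nat.eq_one_of_dvd_one ⟨m, e.symm⟩))
      obtain ⟨w, hw, hwc, l, hl⟩ := F.exists_q_commute hk huc
      obtain ⟨x, i, hi, hx, hxu⟩ := F.to_n hk huc hw hwc hl
      exact ⟨x, i, hi, hx, (hMab u hu).trans (F.le_of_nm hk hi hidx hxu)⟩
    obtain ⟨w, hw, hwc, l, hl⟩ := F.exists_q_commute hky hyc
    obtain ⟨x, i, hi, hx, hxy⟩ := F.to_n hky hyc hw hwc hl
    refine ⟨x, i, hi, hx, ?_⟩
    obtain ⟨Q, hQ⟩ := exists_sylow_le_C (q := q) (x := x) (by rw [hx]; exact F.pw.symm.not_p_dvd_m)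
    have hxQ : x ∈ (Q : Subgroup G) := mem_sylow_of_commute Q hi hQ
    -- all noncentral elements of `M` have the same stabiliser order in `Q`
    have hcardQ : ∀ t ∈ M, t ∉ center G → Nat.card (C t ⊓ (Q : Subgroup G) : Subgroup G) * m = Nat.card Q := by
      intro t ht htc
      obtain ⟨k, hk⟩ := hUord t ht.1
      refine le_antisymm (F.card_bound hk htc (Q.isPGroup'.to_le inf_le_right) inf_le_left Q) ?_
      have h1 : (C t).relIndex (Q : Subgroup G) ≤ m := by
        have h2 : (C t).index = m := (F.idx_p hk htc).resolve_right fun e => hnm ⟨t, ht, e⟩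
        rw [← h2, ← relIndex_top_right]
        exact relIndex_le_of_le_right le_top (by rw [relIndex_top_right]; exact index_ne_zero_of_finite)
      calc Nat.card Q = (C t).relIndex (Q : Subgroup G) * Nat.card (C t ⊓ (Q : Subgroup G) : Subgroup G) := by
            rw [← inf_relIndex_right, relIndex_mul_card_of_le inf_le_right]
        _ ≤ m * Nat.card (C t ⊓ (Q : Subgroup G) : Subgroup G) := Nat.mul_le_mul_right _ h1
        _ = _ := mul_comm _ _
    intro t ht
    set c := t⁻¹ * (x * t * x⁻¹) with hc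
    have hcM : c ∈ M := M.mul_mem (M.inv_mem ht) (hMn.conj_mem t ht x)
    -- elements of `Q` fixing `t * s` with `x` fixing `s` fix `c`
    have hsub : ∀ s ∈ M, Commute x s → C (t * s) ⊓ (Q : Subgroup G) ≤ C c := by
      intro s hsM hs g hg
      have hgx : g * x * g⁻¹ = x := by rw [mem_C.1 (hQ hg.2), mul_inv_cancel_right]
      have hgts : g * (t * s) * g⁻¹ = t * s := by rw [mem_C.1 hg.1, mul_inv_cancel_right]
      have hcs : (t * s)⁻¹ * (x * (t * s) * x⁻¹) = s⁻¹ * c * s := by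
        calc (t * s)⁻¹ * (x * (t * s) * x⁻¹) = s⁻¹ * t⁻¹ * (x * t * (s * x⁻¹)) := by group
          _ = s⁻¹ * t⁻¹ * (x * t * (x⁻¹ * s)) := by rw [(hs.inv_left).eq]
          _ = s⁻¹ * c * s := by rw [hc]; group
      have hgc : g * ((t * s)⁻¹ * (x * (t * s) * x⁻¹)) * g⁻¹ = (t * s)⁻¹ * (x * (t * s) * x⁻¹) := by
        calc g * ((t * s)⁻¹ * (x * (t * s) * x⁻¹)) * g⁻¹
            = (g * (t * s) * g⁻¹)⁻¹ * ((g * x * g⁻¹) * (g * (t * s) * g⁻¹) * (g * x * g⁻¹)⁻¹) := by group
          _ = _ := by rw [hgx, hgts]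
      refine mem_C.2 (mul_inv_eq_iff_eq_mul.1 ?_)
      rw [hcs] at hgc
      have hcomm : s⁻¹ * c * s = c := by
        rw [mul_assoc, ← mem_C.1 (hMab c hcM hsM), inv_mul_cancel_left]
      rwa [hcomm] at hgc
    -- `x` fixes `c`
    have hcx : x ∈ C c := by
      by_cases hcc : c ∈ center G
      · exact mem_C.2 (Subgroup.mem_center_iff.1 hcc x)
      have hcentral : ∀ s ∈ M, Commute x s → t * s ∈ center G → c ∈ center G := fun s hsM hs hts => by
        refine absurd ?_ hcc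
        have h1 : x * (t * s) * x⁻¹ = t * s := by rw [Subgroup.mem_center_iff.1 hts x, mul_inv_cancel_right]
        have h2 : x * t * x⁻¹ = t := by
          refine mul_right_cancel (b := s) ?_
          calc x * t * x⁻¹ * s = x * (t * s) * x⁻¹ := by
                rw [mul_assoc (x * t), (hs.inv_left).eq]; group
            _ = t * s := h1
        rw [hc, h2, inv_mul_cancel]
        exact one_mem _
      have hts : ∀ s ∈ M, Commute x s → C (t * s) ⊓ (Q : Subgroup G) = C c ⊓ (Q : Subgroup G) := by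
        intro s hsM hs
        have htsM : t * s ∈ M := M.mul_mem ht hsM
        have htsc : t * s ∉ center G := fun h => hcc (hcentral s hsM hs h)
        refine eq_of_le_of_card_ge (le_inf (hsub s hsM hs) inf_le_right) (le_of_eq ?_)
        exact Nat.eq_of_mul_eq_mul_right (by linarith [F.pw.four.hm])
          ((hcardQ c hcM hcc).trans (hcardQ _ htsM htsc).symm)
      have h1 := hts 1 (one_mem M) (Commute.one_right x)
      rw [mul_one] at h1
      have h2 := hts y hyM (mem_C.1 hxy)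
      have h3 : C c ⊓ (Q : Subgroup G) ≤ C y := by
        intro g hg
        have hgt : g ∈ C t := (h1.ge hg).1
        have hgty : g ∈ C (t * y) := (h2.ge hg).1
        refine mem_C.2 ?_
        refine mul_left_cancel (a := t) ?_
        calc t * (g * y) = g * (t * y) := by rw [← mul_assoc, ← mem_C.1 hgt, mul_assoc]
          _ = t * (y * g) := by rw [mem_C.1 hgty, mul_assoc]
      have h4 : C c ⊓ (Q : Subgroup G) = C y ⊓ (Q : Subgroup G) :=
        eq_of_le_of_card_ge (le_inf h3 inf_le_right) (le_of_eq (Nat.eq_of_mul_eq_mul_right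
          (by linarith [F.pw.four.hm]) ((hcardQ y hyM hyc).trans (hcardQ c hcM hcc).symm)))
      exact (h4.ge ⟨hxy, hxQ⟩).1
    -- hence `x` centralises `t`
    have hpow : ∀ j : ℕ, x ^ j * t * (x ^ j)⁻¹ = t * c ^ j := by
      intro j
      induction j with
      | zero => simp
      | succ j ih =>
        calc x ^ (j + 1) * t * (x ^ (j + 1))⁻¹ = x * (x ^ j * t * (x ^ j)⁻¹) * x⁻¹ := by rw [pow_succ']; group
          _ = x * t * (c ^ j * x⁻¹) := by rw [ih]; group
          _ = x * t * (x⁻¹ * c ^ j) := by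
              rw [((show Commute x c from mem_C.1 hcx).inv_left.pow_right j).eq]
          _ = t * c * c ^ j := by rw [hc]; group
          _ = t * c ^ (j + 1) := by rw [pow_succ', mul_assoc]
    have hc1 : c = 1 := by
      have h1 := hpow (q ^ i)
      rw [← hi, pow_orderOf_eq_one, one_mul, inv_one, mul_one, left_eq_mul, hi] at h1
      obtain ⟨e, he⟩ := hUord c hcM.1
      exact orderOf_eq_one_iff.1 (Nat.eq_one_of_dvd_coprimes
        (((Nat.coprime_primes F.pw.hq F.pw.hp).2 F.pw.symm.p_ne_q).pow i e)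
        (orderOf_dvd_of_pow_eq_one h1) (dvd_of_eq he))
    refine mem_C.2 ?_
    have h5 : x * t * x⁻¹ = t := by
      rw [hc, inv_mul_eq_one] at hc1
      exact hc1.symm
    exact (mul_inv_eq_iff_eq_mul.1 h5).symm
  -- maximise the fixed points in `U`
  obtain ⟨x, ⟨i, hi, hx, hxM⟩, hmax⟩ : ∃ x, (∃ i, orderOf x = q ^ i ∧ (C x).index = n ∧ M ≤ C x) ∧
      ∀ x', (∃ i, orderOf x' = q ^ i ∧ (C x').index = n ∧ M ≤ C x') →
        Nat.card (U ⊓ C x' : Subgroup G) ≤ Nat.card (U ⊓ C x : Subgroup G) := by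
    haveI : Fintype G := Fintype.ofFinite G
    obtain ⟨x, hxs, hmax⟩ := Finset.exists_max_image
      (Finset.univ.filter fun x => ∃ i, orderOf x = q ^ i ∧ (C x).index = n ∧ M ≤ C x)
      (fun x => Nat.card (U ⊓ C x : Subgroup G)) (by
        obtain ⟨x, hx⟩ := hstep1
        exact ⟨x, Finset.mem_filter.2 ⟨Finset.mem_univ x, hx⟩⟩)
    exact ⟨x, (Finset.mem_filter.1 hxs).2, fun x' h' => hmax x' (Finset.mem_filter.2 ⟨Finset.mem_univ x', h'⟩)⟩
  set U1 := U ⊓ C x with hU1
  have hlt : U1 < U := lt_of_le_of_ne inf_le_left fun e => hnot x hx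
    (F.pw.central_of_centralizes hW hi (inf_eq_left.1 e))
  by_cases hexa : ∃ a ∈ U, a ∉ U1 ∧ U1 ≤ C a
  · obtain ⟨a, haU, ha1, hac⟩ := hexa
    obtain ⟨k, hk⟩ := hUord a haU
    have hZU : ∀ u ∈ U, u ∈ center G → u ∈ U1 := fun u hu hz => ⟨hu, center_le x hz⟩
    have hacen : a ∉ center G := fun h => ha1 (hZU a haU h)
    rcases F.idx_p hk hacen with hidx | hidx
    · obtain ⟨P, hP⟩ := exists_sylow_le_C (q := p) (x := a) (by rw [hidx]; exact F.pw.not_p_dvd_m)
      exact ha1 ⟨haU, hxM ⟨haU, mem_centralizer_iff.2 fun u hu => mem_C.1 (((hUP P).trans hP) hu)⟩⟩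
    obtain ⟨w, hw, hwc, l, hl⟩ := F.exists_q_commute hk hacen
    obtain ⟨x', i', hi', hx', hxa⟩ := F.to_n hk hacen hw hwc hl
    have hle := F.le_of_nm hk hi' hidx hxa
    have hMa : M ≤ C a := fun v hv => mem_C.2 ((mem_centralizer_iff.1 hv.2 a haU).symm)
    have h1 : U1 ≤ U ⊓ C x' := le_inf inf_le_left (hac.trans hle)
    have h2 := eq_of_le_of_card_ge h1 (hmax x' ⟨i', hi', hx', hMa.trans hle⟩)
    exact ha1 (h2.ge ⟨haU, hle (self_mem a)⟩)
  · -- otherwise `x` centralises `U`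
    simp only [not_exists, not_and] at hexa
    haveI : Group.IsNilpotent U := hUp.isNilpotent
    have hlt' : U1.subgroupOf U < ⊤ := lt_top_iff_ne_top.2 fun e => hlt.not_ge (subgroupOf_eq_top.1 e)
    obtain ⟨⟨u, huU⟩, hu, hu'⟩ := SetLike.exists_of_lt (Group.normalizerCondition_of_isNilpotent (G := U) _ hlt')
    have hu1 : u ∉ U1 := hu'
    have hnorm : ∀ v ∈ U1, u⁻¹ * v * u ∈ U1 := fun v hv => by
      have := ((mem_normalizer_iff.1 (inv_mem hu)) ⟨v, hv.1⟩).1 hv
      simpa [mem_subgroupOf] using this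
    set c := u⁻¹ * (x * u * x⁻¹) with hc
    have hcU : c ∈ U := mul_mem (inv_mem huU) ((inferInstance : U.Normal).conj_mem u huU x)
    have hcC : U1 ≤ C c := by
      intro v hv
      have hxv : x * v * x⁻¹ = v := by rw [← mem_C.1 hv.2, mul_inv_cancel_right]
      have hxw : ∀ w ∈ U1, x * w * x⁻¹ = w := fun w hw => by rw [← mem_C.1 hw.2, mul_inv_cancel_right]
      have h1 : x * (u⁻¹ * v * u) * x⁻¹ = u⁻¹ * v * u := hxw _ (hnorm v hv)
      have h2 : (x * u * x⁻¹)⁻¹ * v * (x * u * x⁻¹) = u⁻¹ * v * u := by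
        calc (x * u * x⁻¹)⁻¹ * v * (x * u * x⁻¹) = (x * u * x⁻¹)⁻¹ * (x * v * x⁻¹) * (x * u * x⁻¹) := by rw [hxv]
          _ = x * (u⁻¹ * v * u) * x⁻¹ := by group
          _ = _ := h1
      refine mem_C.2 ?_
      calc v * c = v * u⁻¹ * (x * u * x⁻¹) := by rw [hc]; group
        _ = u⁻¹ * ((x * u * x⁻¹) * ((x * u * x⁻¹)⁻¹ * (u * v * u⁻¹) * (x * u * x⁻¹))) := by group
        _ = c * v := by
          have h3 : (x * u * x⁻¹)⁻¹ * (u * v * u⁻¹) * (x * u * x⁻¹) = v := by
            have hv' : u * v * u⁻¹ ∈ U1 := by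
              have := ((mem_normalizer_iff.1 hu) ⟨v, hv.1⟩).1 hv
              simpa [mem_subgroupOf] using this
            calc (x * u * x⁻¹)⁻¹ * (u * v * u⁻¹) * (x * u * x⁻¹)
                = (x * u * x⁻¹)⁻¹ * (x * (u * v * u⁻¹) * x⁻¹) * (x * u * x⁻¹) := by rw [hxw _ hv']
              _ = x * v * x⁻¹ := by group
              _ = v := hxv
          rw [h3, hc]; group
    have hc1 : c ∈ U1 := by
      by_contra h
      exact hexa c hcU h hcC
    have hcx : x ∈ C c := mem_C_comm hc1.2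
    have hpow : ∀ j : ℕ, x ^ j * u * (x ^ j)⁻¹ = u * c ^ j := by
      intro j
      induction j with
      | zero => simp
      | succ j ih =>
        calc x ^ (j + 1) * u * (x ^ (j + 1))⁻¹ = x * (x ^ j * u * (x ^ j)⁻¹) * x⁻¹ := by rw [pow_succ']; group
          _ = x * u * (c ^ j * x⁻¹) := by rw [ih]; group
          _ = x * u * (x⁻¹ * c ^ j) := by
              rw [((show Commute x c from mem_C.1 hcx).inv_left.pow_right j).eq]
          _ = u * c * c ^ j := by rw [hc]; group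
          _ = u * c ^ (j + 1) := by rw [pow_succ', mul_assoc]
    have hc2 : c = 1 := by
      have h1 := hpow (q ^ i)
      rw [← hi, pow_orderOf_eq_one, one_mul, inv_one, mul_one, left_eq_mul, hi] at h1
      obtain ⟨e, he⟩ := hUord c hcU
      exact orderOf_eq_one_iff.1 (Nat.eq_one_of_dvd_coprimes
        (((Nat.coprime_primes F.pw.hq F.pw.hp).2 F.pw.symm.p_ne_q).pow i e)
        (orderOf_dvd_of_pow_eq_one h1) (dvd_of_eq he))
    refine hu1 ⟨huU, mem_C.2 ?_⟩
    rw [hc, inv_mul_eq_one] at hc2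
    exact (mul_inv_eq_iff_eq_mul.1 hc2.symm).symm

end Bad

end CfsgLib.ClassSizes.FourSizes
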