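import Cfsg.Agent.Lib.ClassSizes.FourSizes.Setup

/-!
# A noncentral normal `q`-subgroup forces `n < m`
-/

set_option autoImplicit false
set_option linter.all false

namespace CfsgLib.ClassSizes.FourSizes

open Subgroup

universe u

variable {G : Type u} [Group G] [Finite G]

namespace Bad

variable {p q a b n m : ℕ} (F : Bad p q a b n m G)
include F

theorem lt_of_noncentral (W : Subgroup G) (hWn : W.Normal) (hW : IsPGroup q W) (hWc : ¬ W ≤ center G) : n < m := by
  classical
  haveI := hWn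
  haveI := Fact.mk F.pw.hp
  haveI := Fact.mk F.pw.hq
  obtain ⟨P⟩ : Nonempty (Sylow p G) := inferInstance
  -- a minimal noncentral `P`-invariant subgroup of `W`
  obtain ⟨M, ⟨hMW, hPM, hMc⟩, hmin⟩ : ∃ M : Subgroup G, (M ≤ W ∧ (P : Subgroup G) ≤ normalizer (M : Set G) ∧ ¬ M ≤ center G) ∧
      ∀ M' : Subgroup G, M' ≤ W → (P : Subgroup G) ≤ normalizer (M' : Set G) → ¬ M' ≤ center G → Nat.card M ≤ Nat.card M' := by
    have hex : ∃ d, ∃ M : Subgroup G, (M ≤ W ∧ (P : Subgroup G) ≤ normalizer (M : Set G) ∧ ¬ M ≤ center G) ∧ Nat.card M = d :=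
      ⟨_, W, ⟨le_rfl, by rw [normalizer_eq_top W]; exact le_top, hWc⟩, rfl⟩
    obtain ⟨M, hM, hMd⟩ := Nat.find_spec hex
    exact ⟨M, hM, fun M' h1 h2 h3 => hMd ▸ Nat.find_min' hex ⟨M', ⟨h1, h2, h3⟩, rfl⟩⟩
  have hMq : IsPGroup q M := hW.to_le hMW
  obtain ⟨w, hwM, hwc⟩ := SetLike.not_le_iff_exists.1 hMc
  obtain ⟨kw, hkw⟩ := IsPGroup.iff_orderOf.1 hMq ⟨w, hwM⟩
  rw [Subgroup.orderOf_mk] at hkw
  have hconj : ∀ π ∈ (P : Subgroup G), ∀ x ∈ M, π * x * π⁻¹ ∈ M := fun π hπ x hx =>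
    (mem_normalizer_iff.1 (hPM hπ) x).1 hx
  -- an element of `P` central modulo the kernel of the action
  let K : Subgroup P := (centralizer (M : Set G)).subgroupOf P
  haveI hKn : K.Normal := by
    refine ⟨fun k hk g => ?_⟩
    rw [mem_subgroupOf, mem_centralizer_iff] at hk ⊢
    intro x hx
    have h1 := hk _ (hconj _ (P.1.inv_mem g.2) x hx)
    simp only [inv_inv] at h1
    simp only [Subgroup.coe_mul, Subgroup.coe_inv]
    calc x * ((g : G) * (k : G) * (g : G)⁻¹) = (g : G) * (((g : G)⁻¹ * x * (g : G)) * (k : G)) * (g : G)⁻¹ := by group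
      _ = (g : G) * ((k : G) * ((g : G)⁻¹ * x * (g : G))) * (g : G)⁻¹ := by rw [h1]
      _ = (g : G) * (k : G) * (g : G)⁻¹ * x := by group
  haveI : Nontrivial (P ⧸ K) := by
    rw [← Finite.one_lt_card_iff_nontrivial]
    refine Nat.one_lt_iff_ne_zero_and_ne_one.2 ⟨Nat.card_pos.ne', fun e => ?_⟩
    have htop : K = ⊤ := Subgroup.index_eq_one.1 e
    refine F.not_le_C hkw hwc P fun g hg => ?_
    have h1 : (⟨g, hg⟩ : P) ∈ K := htop.ge (mem_top _)
    exact mem_C.2 ((mem_centralizer_iff.1 h1) w hwM).symm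
  haveI : Group.IsNilpotent (P ⧸ K) := (P.isPGroup'.to_quotient K).isNilpotent
  have hcne : (center (P ⧸ K)) ≠ ⊥ := by
    intro e
    have := CfsgLib.Core.inf_center_ne_bot_of_isNilpotent (G := P ⧸ K) ⊤ top_ne_bot
    rw [top_inf_eq, e] at this
    exact this rfl
  rw [Ne, eq_bot_iff_forall] at hcne
  push Not at hcne
  obtain ⟨zb, hzb, hzb1⟩ := hcne
  obtain ⟨⟨z, hzP⟩, rfl⟩ := QuotientGroup.mk_surjective zb
  have hzM : ¬ M ≤ C z := fun h => hzb1 ((QuotientGroup.eq_one_iff _).2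
    (mem_centralizer_iff.2 fun x hx => mem_C.1 (h hx)))
  -- the fixed points of `z` are central
  have hfix : M ⊓ C z ≤ center G := by
    by_contra hne
    have hinv : ∀ π ∈ (P : Subgroup G), ∀ x ∈ M ⊓ C z, π * x * π⁻¹ ∈ M ⊓ C z := by
      intro π hπ x hx
      refine ⟨hconj π hπ x hx.1, mem_C.2 ?_⟩
      have h1 := (Subgroup.mem_center_iff.1 hzb ((⟨π, hπ⟩ : P) : P ⧸ K))
      rw [← QuotientGroup.mk_mul, ← QuotientGroup.mk_mul, QuotientGroup.eq, mem_subgroupOf, mem_centralizer_iff] at h1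
      have h2 := h1 x hx.1
      have h3 : π⁻¹ * z * π * x = x * (π⁻¹ * z * π) := by
        calc π⁻¹ * z * π * x = z * (z⁻¹ * π⁻¹ * (z * π)) * x := by group
          _ = z * ((π * z)⁻¹ * (z * π) * x) := by group
          _ = z * (x * ((π * z)⁻¹ * (z * π))) := congrArg (z * ·) h2.symm
          _ = z * x * ((π * z)⁻¹ * (z * π)) := by group
          _ = x * z * ((π * z)⁻¹ * (z * π)) := by rw [mem_C.1 hx.2]
          _ = x * (π⁻¹ * z * π) := by group
      calc π * x * π⁻¹ * z = π * (x * (π⁻¹ * z * π)) * π⁻¹ := by group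
        _ = π * (π⁻¹ * z * π * x) * π⁻¹ := by rw [h3]
        _ = z * (π * x * π⁻¹) := by group
    have hP' : (P : Subgroup G) ≤ normalizer ((M ⊓ C z : Subgroup G) : Set G) := fun π hπ =>
      mem_normalizer_iff.2 fun x => ⟨hinv π hπ x, fun hx => by
        have := hinv π⁻¹ (P.1.inv_mem hπ) _ hx
        simpa [mul_assoc] using this⟩
    have h1 := hmin _ (inf_le_left.trans hMW) hP' hne
    exact hzM ((eq_of_le_of_card_ge inf_le_left h1).ge.trans inf_le_right)
  have hzc : z ∉ center G := fun h => hzM fun x _ => mem_C.2 (Subgroup.mem_center_iff.1 h x)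
  obtain ⟨kz, hkz⟩ := IsPGroup.iff_orderOf.1 P.isPGroup' ⟨z, hzP⟩
  rw [Subgroup.orderOf_mk] at hkz
  -- the index of `C z` in `M`
  have hle : (center G).relIndex M ≤ m := by
    have h1 : (center G).relIndex M = (C z).relIndex M := by
      rw [← inf_relIndex_right (C z) M, ← inf_relIndex_right (center G) M]
      congr 1
      exact le_antisymm (inf_le_inf_right M (center_le z)) (le_inf (inf_comm (C z) M ▸ hfix) inf_le_right)
    rw [h1]
    refine (relIndex_le_of_le_right hMW (index_ne_zero_of_finite (H := (C z).subgroupOf W))).trans ?_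
    obtain ⟨R, hRq, hRz, hRi⟩ := exists_sylow_sub q (C z)
    obtain ⟨Q⟩ : Nonempty (Sylow q G) := inferInstance
    have hsupp : IsPGroup q (R ⊔ W : Subgroup G) := hRq.to_sup_of_normal_right hW
    obtain ⟨Q', hQ'⟩ := hsupp.exists_le_sylow
    have h2 : Nat.card (R ⊔ W : Subgroup G) ≤ Nat.card R * m := by
      refine (Nat.le_of_dvd Nat.card_pos (card_dvd_of_le hQ')).trans ?_
      obtain ⟨j, hj⟩ := Q'.isPGroup'.exists_card_eq
      have h3 : q ^ j ∣ (C z).index * (R.relIndex (C z) * Nat.card R) := by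
        rw [relIndex_mul_card_of_le hRz, (C z).index_mul_card, ← hj]
        exact card_subgroup_dvd_card _
      obtain ⟨e, he⟩ := IsPGroup.iff_card.1 hRq
      have h4 : (C z).index ∣ n * m := F.pw.four.dvd_nm z
      have h5 : q ^ j ∣ n * (R.relIndex (C z) * (Nat.card R * m)) := by
        refine h3.trans ?_
        obtain ⟨c, hc⟩ := h4
        exact Dvd.intro c (by rw [show n * (R.relIndex (C z) * (Nat.card R * m)) = n * m * (R.relIndex (C z) * Nat.card R) by ring, hc]; ring)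
      have h6 : q ^ j ∣ Nat.card R * m := by
        refine (((F.pw.hq.coprime_iff_not_dvd).2 hRi).pow_left j).dvd_of_dvd_mul_left ?_
        exact (((F.pw.hq.coprime_iff_not_dvd).2 F.pw.symm.not_p_dvd_m).pow_left j).dvd_of_dvd_mul_left h5
      rw [hj]
      exact Nat.le_of_dvd (Nat.mul_pos Nat.card_pos (by linarith [F.pw.four.hm])) h6
    have h7 := CfsgLib.Core.card_sup_mul_card_inf R W (by rw [normalizer_eq_top W]; exact le_top)
    have h8 : Nat.card (R ⊓ W : Subgroup G) ≤ Nat.card (C z ⊓ W : Subgroup G) :=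
      Nat.le_of_dvd Nat.card_pos (card_dvd_of_le (inf_le_inf_right W hRz))
    have h9 : (C z).relIndex W * Nat.card (C z ⊓ W : Subgroup G) = Nat.card W := by
      rw [← inf_relIndex_right (C z) W]
      exact relIndex_mul_card_of_le inf_le_right
    have h10 : Nat.card R * ((C z).relIndex W * Nat.card (C z ⊓ W : Subgroup G)) ≤
        Nat.card R * (m * Nat.card (C z ⊓ W : Subgroup G)) := by
      rw [h9, ← h7, ← mul_assoc]
      exact Nat.mul_le_mul h2 h8
    exact Nat.le_of_mul_le_mul_right (Nat.le_of_mul_le_mul_left h10 Nat.card_pos) Nat.card_pos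
  -- the orbit of `w`
  have hwn : n ∣ (C w).index := F.symm.m_dvd hkw hwc
  have hlow : n ≤ (C w).relIndex (P : Subgroup G) := by
    have h1 := F.pw.card_mul_le hwn (P.isPGroup'.to_le inf_le_right : IsPGroup p (C w ⊓ (P : Subgroup G) : Subgroup G))
      inf_le_left P
    have h2 : (C w).relIndex (P : Subgroup G) * Nat.card (C w ⊓ (P : Subgroup G) : Subgroup G) = Nat.card P := by
      rw [← inf_relIndex_right]
      exact relIndex_mul_card_of_le inf_le_right
    rw [← h2] at h1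
    rw [mul_comm ((C w).relIndex (P : Subgroup G))] at h1
    exact Nat.le_of_mul_le_mul_left h1 Nat.card_pos
  let Z' : Subgroup M := (center G).subgroupOf M
  haveI : Z'.Normal := (inferInstance : (center G).Normal).subgroupOf M
  let f : P → M ⧸ Z' := fun π => ((⟨π * w * (π : G)⁻¹, hconj _ π.2 w hwM⟩ : M) : M ⧸ Z')
  have hf1 : ∀ π, f π ≠ ((1 : M) : M ⧸ Z') := fun π h => by
    rw [QuotientGroup.mk_one, QuotientGroup.eq_one_iff] at h
    refine hwc ?_
    have h' : (π : G)⁻¹ * ((π : G) * w * (π : G)⁻¹) * (π : G)⁻¹⁻¹ ∈ center G := (inferInstance : (center G).Normal).conj_mem _ h _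
    simpa [mul_assoc] using h'
  have hf2 : ∀ π π' : P, f π = f π' → (π : G)⁻¹ * π' ∈ C w := by
    intro π π' h
    rw [QuotientGroup.eq, mem_subgroupOf] at h
    simp only [Subgroup.coe_mul, Subgroup.coe_inv] at h
    set g : G := (π : G)⁻¹ * π'
    set c := w⁻¹ * (g * w * g⁻¹) with hc
    have hcc : c ∈ center G := by
      have h' := (inferInstance : (center G).Normal).conj_mem _ h (π : G)⁻¹
      rw [hc]
      refine (congrArg (· ∈ center G) ?_).mp h'
      simp only [g]
      group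
    have hpow : ∀ i : ℕ, g ^ i * w * (g ^ i)⁻¹ = w * c ^ i := by
      intro i
      induction i with
      | zero => simp
      | succ i ih =>
        calc g ^ (i + 1) * w * (g ^ (i + 1))⁻¹ = g * (g ^ i * w * (g ^ i)⁻¹) * g⁻¹ := by rw [pow_succ']; group
          _ = g * w * (c ^ i * g⁻¹) := by rw [ih]; group
          _ = g * w * (g⁻¹ * c ^ i) := by rw [← Subgroup.mem_center_iff.1 (pow_mem hcc i) g⁻¹]
          _ = w * c * c ^ i := by rw [hc]; group
          _ = w * c ^ (i + 1) := by rw [pow_succ', mul_assoc]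
    obtain ⟨e, he⟩ := IsPGroup.iff_orderOf.1 P.isPGroup' ⟨g, P.1.mul_mem (P.1.inv_mem π.2) π'.2⟩
    rw [Subgroup.orderOf_mk] at he
    have h1 : c ^ (p ^ e) = 1 := by
      have := hpow (p ^ e)
      rw [← he, pow_orderOf_eq_one, one_mul, inv_one, mul_one, left_eq_mul] at this
      rw [← he]; exact this
    have hcW : c ∈ W := by
      rw [hc]
      exact W.mul_mem (W.inv_mem (hMW hwM)) (hWn.conj_mem _ (hMW hwM) g)
    obtain ⟨i, hi⟩ := hW ⟨c, hcW⟩
    have hc1 : c = 1 := orderOf_eq_one_iff.1 (Nat.eq_one_of_dvd_coprimes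
      ((((Nat.coprime_primes F.pw.hp F.pw.hq).2 F.pw.p_ne_q)).pow e i)
      (orderOf_dvd_of_pow_eq_one h1) (orderOf_dvd_of_pow_eq_one (congrArg Subtype.val hi)))
    refine mem_C.2 (mul_inv_eq_iff_eq_mul.1 ?_)
    calc g * w * g⁻¹ = w * c := by rw [hc]; group
      _ = w := by rw [hc1, mul_one]
  let f' : (P : Subgroup G) ⧸ (C w).subgroupOf (P : Subgroup G) → {c : M ⧸ Z' // c ≠ ((1 : M) : M ⧸ Z')} :=
    fun c => ⟨f c.out, hf1 _⟩
  have hinj : Function.Injective f' := fun c c' h => by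
    rw [← c.out_eq', ← c'.out_eq', QuotientGroup.eq, mem_subgroupOf]
    exact hf2 _ _ (congrArg Subtype.val h)
  have hlt : Nat.card {c : M ⧸ Z' // c ≠ ((1 : M) : M ⧸ Z')} < Nat.card (M ⧸ Z') := by
    haveI : Fintype (M ⧸ Z') := Fintype.ofFinite _
    rw [Nat.card_eq_fintype_card, Nat.card_eq_fintype_card]
    exact Fintype.card_subtype_lt (x := ((1 : M) : M ⧸ Z')) (by simp)
  calc n ≤ (C w).relIndex (P : Subgroup G) := hlow
    _ ≤ Nat.card {c : M ⧸ Z' // c ≠ ((1 : M) : M ⧸ Z')} := Nat.card_le_card_of_injective _ hinj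
    _ < Nat.card (M ⧸ Z') := hlt
    _ ≤ m := hle

end Bad

end CfsgLib.ClassSizes.FourSizes
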