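import Cfsg.Agent.Lib.ClassSizes.FourSizes.Inequality
import Cfsg.Agent.Lib.ClassSizes.FourSizes.CentralCase
import Cfsg.Agent.Lib.ClassSizes.PPowerClass

/-!
# Four class sizes `1, n, m, nm`: the group is nilpotent
-/

set_option autoImplicit false
set_option linter.all false

namespace CfsgLib.ClassSizes.FourSizes

open Subgroup
open CfsgLib.ClassSizes
open CfsgLib.ClassSizes.RegularTwo (orderOf_conj')
open scoped Pointwise

universe u

variable {G : Type u} [Group G] [Finite G]

namespace Pow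

variable {p q a b n m : ℕ} (F : Pow p q a b n m G)
include F

/-- A `p`-element of index `n` gives a normal `p`-complement, and then the Sylow `q`-subgroup is normal. -/
theorem sylow_normal {v : G} {k : ℕ} (hk : orderOf v = p ^ k) (hv : (C v).index = n) :
    ∀ Q : Sylow q G, (Q : Subgroup G).Normal := by
  haveI := Fact.mk F.hp
  haveI := Fact.mk F.hq
  obtain ⟨P, N, hN, hNP⟩ := PPower.hasNormalPComplement_of_max_class (p := p) a (fun y hy => by
    have h := hy.trans (F.four.dvd_nm y)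
    rw [F.hn, pow_succ] at h
    exact F.not_p_dvd_m (Nat.dvd_of_mul_dvd_mul_left (pow_pos F.hp.pos a) h)) hk (hv.trans F.hn)
  haveI := hN
  have hidx : N.index = Nat.card P := hNP.symm.index_eq_card
  have hqN : ∀ R : Subgroup G, IsPGroup q R → R ≤ N := by
    intro R hR r hr
    obtain ⟨i, hi⟩ := IsPGroup.iff_orderOf.1 hR ⟨r, hr⟩
    rw [Subgroup.orderOf_mk] at hi
    obtain ⟨j, hj⟩ := P.isPGroup'.exists_card_eq
    refine RegularTwo.mem_of_pow_mem (n := N.index) ?_ (Subgroup.pow_index_mem N r)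
    rw [hidx, hj, hi]
    exact ((Nat.coprime_primes F.hp F.hq).2 F.p_ne_q).pow j i
  intro Q
  have hQN := hqN Q Q.isPGroup'
  -- `N` is generated by `Q` and central elements
  have hgen : N ≤ (Q : Subgroup G) ⊔ center G := by
    have htop : ((Q : Subgroup G) ⊔ center G).subgroupOf N = ⊤ := by
      refine CfsgLib.Core.eq_top_of_forall_exists_sylow_le _ fun r hr hrd => ?_
      haveI := Fact.mk hr
      by_cases hrq : r = q
      · subst hrq
        exact ⟨Q.subtype hQN, fun x hx => mem_sup_left (hx : (x : G) ∈ (Q : Subgroup G))⟩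
      by_cases hrp : r = p
      · exfalso
        subst hrp
        obtain ⟨x, hx⟩ := exists_prime_orderOf_dvd_card' (G := N) r hrd
        obtain ⟨j, hj⟩ := P.isPGroup'.exists_card_eq
        have h1 := hNP.disjoint
        obtain ⟨g, hg⟩ := (IsPGroup.of_card (n := 1) (show Nat.card (zpowers (x : G)) = r ^ 1 by
          rw [Nat.card_zpowers, Subgroup.orderOf_coe, hx, pow_one])).exists_le_sylow
        obtain ⟨c, hc⟩ := MulAction.exists_smul_eq G P g
        have hxg : (x : G) ∈ (g : Subgroup G) := hg (mem_zpowers _)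
        rw [← hc] at hxg
        obtain ⟨y, hy, hye⟩ := hxg
        change c * y * c⁻¹ = (x : G) at hye
        have hyN : y ∈ N := by
          have := hN.conj_mem _ x.2 c⁻¹
          rw [← hye] at this
          simpa [mul_assoc] using this
        have hy1 : y = 1 := mem_bot.1 (h1.le_bot ⟨hyN, hy⟩)
        rw [hy1, mul_one, mul_inv_cancel] at hye
        rw [← Subgroup.orderOf_coe, ← hye, orderOf_one] at hx
        exact hr.one_lt.ne hx
      obtain ⟨R⟩ : Nonempty (Sylow r N) := inferInstance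
      exact ⟨R, fun x hx => mem_sup_right (F.sylow_other_le hr hrp hrq _ (R.isPGroup'.map N.subtype) ⟨x, hx, rfl⟩)⟩
    exact subgroupOf_eq_top.1 htop
  -- hence `Q` is the only Sylow subgroup
  refine ⟨fun x hx g => ?_⟩
  have hxN : g * x * g⁻¹ ∈ N := hN.conj_mem x (hQN hx) g
  have h := hgen hxN
  rw [← SetLike.mem_coe, Subgroup.mul_normal (Q : Subgroup G) (center G), Set.mem_mul] at h
  obtain ⟨u, hu, z, hz, huz⟩ := h
  have hzo : z ∈ (Q : Subgroup G) := by
    obtain ⟨i, hi⟩ := IsPGroup.iff_orderOf.1 Q.isPGroup' ⟨x, hx⟩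
    rw [Subgroup.orderOf_mk] at hi
    obtain ⟨e, he⟩ := IsPGroup.iff_orderOf.1 Q.isPGroup' ⟨u, hu⟩
    rw [Subgroup.orderOf_mk] at he
    have hcom : Commute u z := Subgroup.mem_center_iff.1 hz u
    have h1 : z ^ (q ^ (e + i)) = 1 := by
      have h2 : (u * z) ^ (q ^ (e + i)) = 1 := by
        refine orderOf_dvd_iff_pow_eq_one.1 ?_
        rw [huz, orderOf_conj', hi]
        exact pow_dvd_pow q (Nat.le_add_left _ _)
      rwa [hcom.mul_pow, orderOf_dvd_iff_pow_eq_one.1 (he ▸ pow_dvd_pow q (Nat.le_add_right e i)), one_mul] at h2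
    obtain ⟨j, -, hj⟩ := (Nat.dvd_prime_pow F.hq).1 (show orderOf z ∣ q ^ (e + i) from orderOf_dvd_of_pow_eq_one h1)
    exact mem_sylow_of_commute Q hj fun g _ => mem_C.2 (Subgroup.mem_center_iff.1 hz g)
  rw [← huz]
  exact mul_mem hu hzo

/-- There is a `p`-element of index `n` or a `q`-element of index `m` only if both exist. -/
theorem no_mixed {y : G} {ky : ℕ} (hky : orderOf y = q ^ ky) (hy : (C y).index = m) :
    ∃ v : G, ∃ k, orderOf v = p ^ k ∧ (C v).index = n := by
  by_contra hcon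
  push Not at hcon
  haveI := Fact.mk F.hp
  haveI := Fact.mk F.hq
  have hPn := F.symm.sylow_normal hky hy
  obtain ⟨P, hPy⟩ := exists_sylow_le_C (q := p) (x := y) (by rw [hy]; exact F.not_p_dvd_m)
  haveI := hPn P
  obtain ⟨R, hR, hRy, hRi⟩ := exists_sylow_sub q (C y)
  -- the decomposition of `C y`
  have hCy : C y ≤ (P : Subgroup G) ⊔ (R ⊔ center G) := by
    have htop : ((P : Subgroup G) ⊔ (R ⊔ center G)).subgroupOf (C y) = ⊤ := by
      refine CfsgLib.Core.eq_top_of_forall_exists_sylow_le _ fun r hr hrd => ?_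
      haveI := Fact.mk hr
      by_cases hrp : r = p
      · subst hrp
        exact ⟨P.subtype hPy, fun x hx => mem_sup_left (hx : (x : G) ∈ (P : Subgroup G))⟩
      by_cases hrq : r = q
      · subst hrq
        exact ⟨(hR.comap_subtype : IsPGroup r (R.subgroupOf (C y))).toSylow hRi,
          fun x hx => mem_sup_right (mem_sup_left (hx : (x : G) ∈ R))⟩
      obtain ⟨S⟩ : Nonempty (Sylow r (C y)) := inferInstance
      exact ⟨S, fun x hx => mem_sup_right (mem_sup_right
        (F.sylow_other_le hr hrp hrq _ (S.isPGroup'.map (C y).subtype) ⟨x, hx, rfl⟩))⟩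
    exact subgroupOf_eq_top.1 htop
  have hy_ord : ∀ v ∈ (P : Subgroup G), (orderOf v).Coprime (orderOf y) := fun v hv => by
    obtain ⟨i, hi⟩ := IsPGroup.iff_orderOf.1 P.isPGroup' ⟨v, hv⟩
    rw [Subgroup.orderOf_mk] at hi
    rw [hi, hky]
    exact ((Nat.coprime_primes F.hp F.hq).2 F.p_ne_q).pow i ky
  -- the covering of `P`
  have hcover : ∀ v : P, ∃ g : P, g⁻¹ * v * g ∈ (centralizer (R : Set G)).subgroupOf (P : Subgroup G) := by
    intro v
    have hvy : Commute (v : G) y := mem_C.1 (hPy v.2)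
    have hmul : C ((v : G) * y) = C (v : G) ⊓ C y := C_mul hvy (hy_ord _ v.2)
    have hndvd := F.not_dvd_relIndex (v := y) (z := (v : G) * y) (dvd_of_eq hy.symm) (hmul.le.trans inf_le_right)
    obtain ⟨R', hR', hR'z, hR'i⟩ := exists_sylow_sub q (C ((v : G) * y))
    have hR'y : R' ≤ C y := hR'z.trans (hmul.le.trans inf_le_right)
    have hi' : ¬ q ∣ R'.relIndex (C y) := by
      rw [← relIndex_mul_relIndex R' _ _ hR'z (hmul.le.trans inf_le_right)]
      exact fun h => (F.hq.dvd_mul.1 h).elim hR'i hndvd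
    obtain ⟨c, hc, hcR⟩ := conj_into hR' hR'y hi' hR hRy
    have h := hCy hc
    rw [← SetLike.mem_coe, Subgroup.normal_mul (P : Subgroup G) (R ⊔ center G), Set.mem_mul] at h
    obtain ⟨π, hπ, t, ht, rfl⟩ := h
    refine ⟨⟨π, hπ⟩, ?_⟩
    rw [mem_subgroupOf, mem_centralizer_iff]
    intro r hr
    show r * (π⁻¹ * (v : G) * π) = π⁻¹ * (v : G) * π * r
    -- `t` normalises `R`
    have ht' : t ∈ normalizer (R : Set G) :=
      (sup_le le_normalizer (fun z hz => mem_normalizer_iff.2 fun a => by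
        rw [← Subgroup.mem_center_iff.1 hz a, mul_inv_cancel_right]) : R ⊔ center G ≤ normalizer (R : Set G)) ht
    have hr' : t⁻¹ * r * t ∈ R := by simpa using (mem_normalizer_iff.1 (inv_mem ht') r).1 hr
    have h1 : π * r * π⁻¹ ∈ C (v : G) := by
      have h2 := (hR'z.trans (hmul.le.trans inf_le_left)) (hcR _ hr')
      rwa [show π * t * (t⁻¹ * r * t) * (π * t)⁻¹ = π * r * π⁻¹ by group] at h2
    calc r * (π⁻¹ * (v : G) * π) = π⁻¹ * (π * r * π⁻¹ * (v : G)) * π := by group
      _ = π⁻¹ * ((v : G) * (π * r * π⁻¹)) * π := by rw [mem_C.1 h1]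
      _ = π⁻¹ * (v : G) * π * r := by group
  have htop := GraphSplit.eq_top_of_conj_cover _ hcover
  have hPR : (P : Subgroup G) ≤ centralizer (R : Set G) := subgroupOf_eq_top.1 htop
  -- an element of index `n` inside `R`
  obtain ⟨x₀, hx₀⟩ := F.four.exn
  obtain ⟨x, s, i, hs, hi, hx⟩ := F.four.exists_primary hx₀
  have hsq : s = q := by
    by_contra hsq
    by_cases hsp : s = p
    · exact hcon x i (hsp ▸ hi) hx
    exact F.four.not_central hx F.four.hn.ne' (F.central_other hs hsp hsq hi)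
  subst hsq
  obtain ⟨Q₀, hQ₀⟩ := exists_sylow_le_C (q := s) (x := x) (by rw [hx]; exact F.symm.not_p_dvd_m)
  obtain ⟨Q, hQ⟩ := (IsPGroup.of_card (show Nat.card (zpowers y) = s ^ ky by rw [Nat.card_zpowers, hky])).exists_le_sylow
  obtain ⟨g, hg⟩ := MulAction.exists_smul_eq G Q₀ Q
  have hyQ : y ∈ (Q : Subgroup G) := hQ (mem_zpowers y)
  rw [← hg] at hyQ
  obtain ⟨y₀, hy₀, hy₀e⟩ := hyQ
  change g * y₀ * g⁻¹ = y at hy₀e
  have hx'y : g * x * g⁻¹ ∈ C y := by
    rw [← hy₀e]
    refine mem_C.2 ?_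
    calc g * x * g⁻¹ * (g * y₀ * g⁻¹) = g * (x * y₀) * g⁻¹ := by group
      _ = g * (y₀ * x) * g⁻¹ := by rw [mem_C.1 (hQ₀ hy₀)]
      _ = g * y₀ * g⁻¹ * (g * x * g⁻¹) := by group
  obtain ⟨c, -, hcR⟩ := conj_into hR hRy hRi (T := zpowers (g * x * g⁻¹))
    (IsPGroup.of_card (show Nat.card (zpowers (g * x * g⁻¹)) = s ^ i by rw [Nat.card_zpowers, orderOf_conj', hi]))
    (zpowers_le.2 hx'y)
  have hx'' := hcR _ (mem_zpowers _)
  have hPx : (P : Subgroup G) ≤ C (c * (g * x * g⁻¹) * c⁻¹) := fun a ha =>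
    mem_C.2 ((mem_centralizer_iff.1 (hPR ha)) _ hx'').symm
  have h3 := index_dvd_of_le hPx
  rw [index_conj, index_conj, hx] at h3
  exact P.not_dvd_index ((F.hn ▸ dvd_pow_self p F.a_ne : p ∣ n).trans h3)

end Pow

/-- The group is nilpotent and both sizes are prime powers. -/
theorem main {n m : ℕ} (F : Four n m G) : Group.IsNilpotent G ∧ IsPrimePow n ∧ IsPrimePow m := by
  have hm := F.isPrimePow_m
  have hn := F.symm.isPrimePow_m
  refine ⟨?_, hn, hm⟩
  obtain ⟨p, a, hp, -, hpa⟩ := (isPrimePow_nat_iff n).1 hn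
  obtain ⟨q, b, hq, -, hqb⟩ := (isPrimePow_nat_iff m).1 hm
  have P : Pow p q a b n m G := ⟨F, hp, hq, hpa.symm, hqb.symm⟩
  haveI := Fact.mk hp
  haveI := Fact.mk hq
  -- a `p`-element of index `n`
  have hboth : (∃ v : G, ∃ k, orderOf v = p ^ k ∧ (C v).index = n) ∧
      (∃ w : G, ∃ k, orderOf w = q ^ k ∧ (C w).index = m) := by
    by_cases hv : ∃ v : G, ∃ k, orderOf v = p ^ k ∧ (C v).index = n
    · obtain ⟨v, k, hk, hv'⟩ := hv
      exact ⟨⟨v, k, hk, hv'⟩, P.symm.no_mixed hk hv'⟩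
    by_cases hw : ∃ w : G, ∃ k, orderOf w = q ^ k ∧ (C w).index = m
    · obtain ⟨w, k, hk, hw'⟩ := hw
      exact absurd (P.no_mixed hk hw') hv
    simp only [not_exists, not_and] at hv hw
    exfalso
    have B : Bad p q a b n m G := ⟨P, hv, hw⟩
    have h1 : n < m := by
      by_cases hW : Cfsg.pCore q G ≤ center G
      · exact (B.no_central_core hW).elim
      · exact B.lt_of_noncentral _ inferInstance (CfsgLib.Core.isPGroup_pCore q G) hW
    have h2 : m < n := by
      by_cases hW : Cfsg.pCore p G ≤ center G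
      · exact (B.symm.no_central_core hW).elim
      · exact B.symm.lt_of_noncentral _ inferInstance (CfsgLib.Core.isPGroup_pCore p G) hW
    omega
  obtain ⟨⟨v, k, hk, hv⟩, w, l, hl, hw⟩ := hboth
  refine ((Group.isNilpotent_of_finite_tfae (G := G)).out 0 3).mpr fun r hr R => ?_
  by_cases hrq : r = q
  · subst hrq; exact P.sylow_normal hk hv R
  by_cases hrp : r = p
  · subst hrp; exact P.symm.sylow_normal hl hw R
  exact ⟨fun x hx g => by
    rw [Subgroup.mem_center_iff.1 (P.sylow_other_le hr.out hrp hrq R R.isPGroup' hx) g, mul_inv_cancel_right]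
    exact hx⟩

end CfsgLib.ClassSizes.FourSizes
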