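import Cfsg.Agent.Lib.ClassSizes.FourSizes.Basic
import Cfsg.Agent.Lib.Core.Cores
import Cfsg.Agent.Lib.Core.Basic

/-!
# Four class sizes: the prime power setting
-/

set_option autoImplicit false
set_option linter.all false

namespace CfsgLib.ClassSizes.FourSizes

open Subgroup
open CfsgLib.ClassSizes
open CfsgLib.ClassSizes.RegularTwo (orderOf_conj')

universe u

variable {G : Type u} [Group G] [Finite G]

/-- `T` meets a set of elements of order a power of `q` in conjugates. -/
theorem conj_into {q : ℕ} [Fact q.Prime] {R H T : Subgroup G} (hR : IsPGroup q R) (hRH : R ≤ H)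
    (hidx : ¬ q ∣ R.relIndex H) (hT : IsPGroup q T) (hTH : T ≤ H) :
    ∃ c ∈ H, ∀ t ∈ T, c * t * c⁻¹ ∈ R := by
  let S : Sylow q H := (hR.comap_subtype : IsPGroup q (R.subgroupOf H)).toSylow hidx
  obtain ⟨S', hS'⟩ := (hT.comap_subtype : IsPGroup q (T.subgroupOf H)).exists_le_sylow
  obtain ⟨c, hc⟩ := MulAction.exists_smul_eq H S' S
  refine ⟨c, c.2, fun t ht => ?_⟩
  have h1 : c * ⟨t, hTH ht⟩ * c⁻¹ ∈ (S : Subgroup H) := by
    rw [← hc]
    exact ⟨_, hS' (show (⟨t, hTH ht⟩ : H) ∈ T.subgroupOf H from ht), rfl⟩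
  have h2 : ((c * ⟨t, hTH ht⟩ * c⁻¹ : H) : G) ∈ R := h1
  exact h2

theorem exists_sylow_sub (q : ℕ) [Fact q.Prime] (H : Subgroup G) :
    ∃ R : Subgroup G, IsPGroup q R ∧ R ≤ H ∧ ¬ q ∣ R.relIndex H := by
  obtain ⟨S⟩ : Nonempty (Sylow q H) := inferInstance
  refine ⟨(S : Subgroup H).map H.subtype, S.isPGroup'.map _, map_subtype_le _, ?_⟩
  rw [Subgroup.relIndex, Subgroup.subgroupOf, comap_map_eq_self_of_injective H.subtype_injective]
  exact S.not_dvd_index

theorem relIndex_mul_card_of_le {K H : Subgroup G} (h : K ≤ H) : K.relIndex H * Nat.card K = Nat.card H := by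
  rw [Subgroup.relIndex, mul_comm, ← Nat.card_congr (subgroupOfEquivOfLe h).toEquiv, card_mul_index]

/-- A Sylow subgroup centralised by an element of that prime order contains it. -/
theorem mem_sylow_of_commute {q : ℕ} [Fact q.Prime] (Q : Sylow q G) {x : G} {k : ℕ} (hk : orderOf x = q ^ k)
    (h : (Q : Subgroup G) ≤ C x) : x ∈ (Q : Subgroup G) := by
  have hx : x ∈ normalizer ((Q : Subgroup G) : Set G) := centralizer_le_normalizer _
    (mem_centralizer_iff.2 fun a ha => mem_C.1 (h ha))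
  have hsup : IsPGroup q ((Q : Subgroup G) ⊔ zpowers x : Subgroup G) :=
    IsPGroup.to_sup_of_normal_left' Q.isPGroup' (IsPGroup.of_card (by rw [Nat.card_zpowers, hk]))
      (zpowers_le.2 hx)
  exact (Q.is_maximal' hsup le_sup_left) ▸ mem_sup_right (mem_zpowers x)

/-- An element of index prime to `q` is centralised by a Sylow `q`-subgroup. -/
theorem exists_sylow_le_C {q : ℕ} [Fact q.Prime] {x : G} (h : ¬ q ∣ (C x).index) :
    ∃ Q : Sylow q G, (Q : Subgroup G) ≤ C x := by
  obtain ⟨S⟩ : Nonempty (Sylow q (C x)) := inferInstance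
  obtain ⟨T, hT⟩ := (S.isPGroup'.map (C x).subtype).exists_le_sylow
  refine ⟨T, ?_⟩
  rw [show (T : Subgroup G) = (S : Subgroup (C x)).map (C x).subtype from
    (eq_of_le_of_card_ge hT (Nat.le_of_dvd Nat.card_pos ?_)).symm]
  · exact map_subtype_le _
  · obtain ⟨j, hj⟩ := T.isPGroup'.exists_card_eq
    have hd : q ^ j ∣ Nat.card (C x) := by
      have h1 : q ^ j ∣ (C x).index * Nat.card (C x) := by
        rw [(C x).index_mul_card, ← hj]; exact card_subgroup_dvd_card _
      exact ((((Fact.out : q.Prime).coprime_iff_not_dvd).2 h).pow_left j).dvd_of_dvd_mul_left h1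
    rw [hj, ← Nat.card_congr ((S : Subgroup (C x)).equivMapOfInjective _ (subtype_injective _)).toEquiv]
    exact S.pow_dvd_card_of_pow_dvd_card hd

theorem index_conj (g x : G) : (C (g * x * g⁻¹)).index = (C x).index := by
  rw [show C (g * x * g⁻¹) = (C x).map (MulAut.conj g).toMonoidHom from (RegularTwo.map_conj_centralizer g x).symm]
  exact Subgroup.index_map_of_bijective (f := (MulAut.conj g).toMonoidHom) (MulEquiv.bijective _) _

/-- The prime power data. -/
structure Pow (p q a b n m : ℕ) (G : Type u) [Group G] : Prop where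
  four : Four n m G
  hp : p.Prime
  hq : q.Prime
  hn : n = p ^ a
  hm : m = q ^ b

namespace Pow

variable {p q a b n m : ℕ} (F : Pow p q a b n m G)
include F

theorem symm : Pow q p b a m n G := ⟨F.four.symm, F.hq, F.hp, F.hm, F.hn⟩

theorem a_ne : a ≠ 0 := fun h => F.four.hn.ne' (by rw [F.hn, h, pow_zero])

theorem p_ne_q : p ≠ q := fun h => by
  have h1 : p ∣ n := F.hn ▸ dvd_pow_self p F.a_ne
  have h2 : q ∣ m := F.hm ▸ dvd_pow_self q F.symm.a_ne
  rw [← h] at h2
  exact F.hp.one_lt.ne' (Nat.eq_one_of_dvd_coprimes F.four.cop h1 h2)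

theorem not_p_dvd_m : ¬ p ∣ m := fun h => F.p_ne_q
  ((Nat.prime_dvd_prime_iff_eq F.hp F.hq).1 (F.hp.dvd_of_dvd_pow (F.hm ▸ h)))

/-- Elements of order prime to `p q` are central. -/
theorem central_other {r k : ℕ} (hr : r.Prime) (hrp : r ≠ p) (hrq : r ≠ q) {w : G} (hw : orderOf w = r ^ k) :
    w ∈ center G := by
  haveI := Fact.mk hr
  refine central_of_not_dvd (fun x hx => ?_) hw
  have h := hx.trans (F.four.dvd_nm x)
  rw [F.hn, F.hm] at h
  rcases hr.dvd_mul.1 h with h | h
  · exact hrp ((Nat.prime_dvd_prime_iff_eq hr F.hp).1 (hr.dvd_of_dvd_pow h))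
  · exact hrq ((Nat.prime_dvd_prime_iff_eq hr F.hq).1 (hr.dvd_of_dvd_pow h))

theorem sylow_other_le {r : ℕ} (hr : r.Prime) (hrp : r ≠ p) (hrq : r ≠ q) (R : Subgroup G) (hR : IsPGroup r R) :
    R ≤ center G := by
  haveI := Fact.mk hr
  intro w hw
  obtain ⟨k, hk⟩ := IsPGroup.iff_orderOf.1 hR ⟨w, hw⟩
  exact F.central_other hr hrp hrq (by rwa [Subgroup.orderOf_mk] at hk)

/-- A subgroup centralised-index bound: a `p`-subgroup of `C v` is small when `n` divides the index. -/
theorem card_mul_le {v : G} (hv : n ∣ (C v).index) {X : Subgroup G} (hX : IsPGroup p X) (hXv : X ≤ C v)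
    (P : Sylow p G) : Nat.card X * n ≤ Nat.card P := by
  haveI := Fact.mk F.hp
  obtain ⟨e, he⟩ := IsPGroup.iff_card.1 hX
  obtain ⟨j, hj⟩ := P.isPGroup'.exists_card_eq
  have h1 : Nat.card X * n ∣ Nat.card G := by
    rw [← (C v).index_mul_card, mul_comm (C v).index]
    exact mul_dvd_mul (card_dvd_of_le hXv) hv
  rw [he, F.hn, ← pow_add] at h1 ⊢
  exact Nat.le_of_dvd Nat.card_pos (P.pow_dvd_card_of_pow_dvd_card h1)

/-- When `m` divides the index of `v`, a centraliser inside `C v` contains a Sylow `q`-subgroup of it. -/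
theorem not_dvd_relIndex {v z : G} (hv : m ∣ (C v).index) (hzv : C z ≤ C v) : ¬ q ∣ (C z).relIndex (C v) := by
  intro hd
  have h := mul_dvd_mul hd hv
  rw [relIndex_mul_index hzv] at h
  have h2 : q * m ∣ n * m := h.trans (F.four.dvd_nm z)
  have h3 : q ∣ n := Nat.dvd_of_mul_dvd_mul_right (by linarith [F.four.hm]) h2
  exact F.symm.not_p_dvd_m h3

end Pow

/-- The remaining configuration. -/
structure Bad (p q a b n m : ℕ) (G : Type u) [Group G] : Prop where
  pw : Pow p q a b n m G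
  no_p : ∀ (v : G) (k : ℕ), orderOf v = p ^ k → (C v).index ≠ n
  no_q : ∀ (v : G) (k : ℕ), orderOf v = q ^ k → (C v).index ≠ m

namespace Bad

variable {p q a b n m : ℕ} (F : Bad p q a b n m G)
include F

theorem symm : Bad q p b a m n G := ⟨F.pw.symm, F.no_q, F.no_p⟩

theorem idx_p {v : G} {k : ℕ} (hk : orderOf v = p ^ k) (hv : v ∉ center G) :
    (C v).index = m ∨ (C v).index = n * m := by
  rcases F.pw.four.sizes v with h | h | h | h
  exacts [absurd h (F.pw.four.ne_one hv), absurd h (F.no_p v k hk), Or.inl h, Or.inr h]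

theorem m_dvd {v : G} {k : ℕ} (hk : orderOf v = p ^ k) (hv : v ∉ center G) : m ∣ (C v).index := by
  rcases F.idx_p hk hv with h | h <;> rw [h]
  exact dvd_mul_left m n

theorem exists_x : ∃ x : G, ∃ k, orderOf x = q ^ k ∧ (C x).index = n := by
  obtain ⟨x₀, hx₀⟩ := F.pw.four.exn
  obtain ⟨x, s, k, hs, hk, hx⟩ := F.pw.four.exists_primary hx₀
  refine ⟨x, k, ?_, hx⟩
  by_cases hsq : s = q
  · exact hsq ▸ hk
  exfalso
  by_cases hsp : s = p
  · exact F.no_p x k (hsp ▸ hk) hx
  · exact F.pw.four.not_central hx F.pw.four.hn.ne' (F.pw.central_other hs hsp hsq hk)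

/-- No Sylow `p`-subgroup centralises a noncentral `q`-element. -/
theorem not_le_C {w : G} {k : ℕ} (hk : orderOf w = q ^ k) (hw : w ∉ center G) (P : Sylow p G) :
    ¬ (P : Subgroup G) ≤ C w := fun h => by
  haveI := Fact.mk F.pw.hp
  have h1 : n ∣ (C w).index := F.symm.m_dvd hk hw
  exact P.not_dvd_index (((F.pw.hn ▸ dvd_pow_self p F.pw.a_ne : p ∣ n)).trans (h1.trans (index_dvd_of_le h)))

end Bad

end CfsgLib.ClassSizes.FourSizes
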